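import Cfsg.Agent.Lib.Core.Cores

/-!
# Balance: the core of the centraliser of an automorphism of a group with trivial centre

`A` is a group of automorphisms of `K` containing the inner ones and `x` an automorphism. If `p` is prime to the number of
fixed points of `x`, the fixed points give a normal subgroup of `C_A(x)` of order prime to `p`. Conversely such a subgroup is
trivial if it meets a family of fixed points trivially and the elements of order prime to `p` centralising this family are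
trivial.
-/

set_option autoImplicit false

namespace Cfsg.Lib.Linear.Balance

variable {K : Type*} [Group K]

theorem conj_conj_eq (β : MulAut K) (k : K) : β * MulAut.conj k * β⁻¹ = MulAut.conj (β k) :=
  MulEquiv.ext fun y => by simp

/-- The fixed points of `x` inside the centraliser of `x`. -/
noncomputable def fixHom (A : Subgroup (MulAut K)) (hinn : ∀ k : K, MulAut.conj k ∈ A) (x : MulAut K) :
    ↥(MonoidHom.eqLocus x.toMonoidHom (MonoidHom.id K)) →* ↥(A ⊓ Subgroup.centralizer {x}) :=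
  ((MulAut.conj : K →* MulAut K).comp (MonoidHom.eqLocus x.toMonoidHom (MonoidHom.id K)).subtype).codRestrict _ fun k =>
    Subgroup.mem_inf.2 ⟨hinn _, Subgroup.mem_centralizer_singleton_iff.2 (by
      have hk : x k.1 = k.1 := k.2
      have h1 := conj_conj_eq x k.1
      rw [hk, mul_inv_eq_iff_eq_mul] at h1
      exact h1.symm)⟩

variable (A : Subgroup (MulAut K)) (hinn : ∀ k : K, MulAut.conj k ∈ A) (x : MulAut K)

theorem fixHom_coe (k : ↥(MonoidHom.eqLocus x.toMonoidHom (MonoidHom.id K))) :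
    (fixHom A hinn x k).1 = MulAut.conj k.1 := rfl

theorem fixHom_injective (hinj : Function.Injective (MulAut.conj : K →* MulAut K)) :
    Function.Injective (fixHom A hinn x) := fun _ _ h => Subtype.ext (hinj (congrArg Subtype.val h))

theorem exists_conj_fixHom (b : ↥(A ⊓ Subgroup.centralizer {x}))
    (k : ↥(MonoidHom.eqLocus x.toMonoidHom (MonoidHom.id K))) :
    ∃ k', k'.1 = b.1 k.1 ∧ b * fixHom A hinn x k * b⁻¹ = fixHom A hinn x k' := by
  refine ⟨⟨b.1 k.1, ?_⟩, rfl, Subtype.ext (conj_conj_eq b.1 k.1)⟩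
  show x (b.1 k.1) = b.1 k.1
  rw [← MulAut.mul_apply, ← Subgroup.mem_centralizer_singleton_iff.1 b.2.2, MulAut.mul_apply]
  exact congrArg b.1 k.2

variable [Finite K] {p : ℕ}

omit [Finite K] in
include hinn in
theorem core_ne_bot (hinj : Function.Injective (MulAut.conj : K →* MulAut K))
    (hcop : Nat.Coprime p (Nat.card ↥(MonoidHom.eqLocus x.toMonoidHom (MonoidHom.id K))))
    {k : K} (hk : x k = k) (hk1 : k ≠ 1) : Cfsg.pPrimeCore p ↥(A ⊓ Subgroup.centralizer {x}) ≠ ⊥ := by
  intro hbot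
  have hn : (fixHom A hinn x).range.Normal := ⟨fun _ ⟨k, hk⟩ b => by
    obtain ⟨k', -, hk'⟩ := exists_conj_fixHom A hinn x b k
    exact ⟨k', by rw [← hk, hk']⟩⟩
  have hle : (fixHom A hinn x).range ≤ Cfsg.pPrimeCore p ↥(A ⊓ Subgroup.centralizer {x}) :=
    Core.le_pPrimeCore' hn (by
      rw [← Nat.card_congr (MonoidHom.ofInjective (fixHom_injective A hinn x hinj)).toEquiv]
      exact hcop.symm)
  rw [hbot, le_bot_iff, MonoidHom.range_eq_bot_iff] at hle
  have h1 : fixHom A hinn x ⟨k, hk⟩ = fixHom A hinn x 1 := by rw [map_one, hle]; rfl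
  exact hk1 (congrArg Subtype.val (fixHom_injective A hinn x hinj h1))

include hinn in
/-- **No core.** -/
theorem core_eq_bot (hinj : Function.Injective (MulAut.conj : K →* MulAut K)) {S : Type*} [Group S] (ψ : S →* K)
    (hψ : ∀ s, x (ψ s) = ψ s) (hnorm : ∀ k : K, x k = k → ∀ s, ∃ s', k * ψ s * k⁻¹ = ψ s')
    (htriv : ∀ N : Subgroup S, N.Normal → (∀ s ∈ N, (orderOf (ψ s)).Coprime p) → ∀ s ∈ N, ψ s = 1)
    (hcent : ∀ b ∈ A, b * x = x * b → (orderOf b).Coprime p → (∀ s, b (ψ s) = ψ s) → b = 1) :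
    Cfsg.pPrimeCore p ↥(A ⊓ Subgroup.centralizer {x}) = ⊥ := by
  set C := A ⊓ Subgroup.centralizer {x} with hC
  set M := Cfsg.pPrimeCore p ↥C with hM
  haveI : M.Normal := by rw [hM]; infer_instance
  set c := fixHom A hinn x with hc
  have hcinj := fixHom_injective A hinn x hinj
  have hMp : ∀ b ∈ M, (orderOf b).Coprime p := fun b hb =>
    Nat.Coprime.coprime_dvd_left (Subgroup.orderOf_dvd_natCard M hb) (Core.pPrimeCore_coprime p ↥C)
  let ψ' : S →* ↥(MonoidHom.eqLocus x.toMonoidHom (MonoidHom.id K)) := ψ.codRestrict _ hψ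
  haveI : (M.comap (c.comp ψ')).Normal := Subgroup.Normal.comap inferInstance _
  have hψtriv : ∀ s, c (ψ' s) ∈ M → ψ s = 1 := fun s hs => htriv (M.comap (c.comp ψ')) inferInstance (fun t ht => by
    have h := hMp _ ht
    rwa [MonoidHom.comp_apply, orderOf_injective _ hcinj, ← Subgroup.orderOf_coe] at h) s hs
  have hfix : ∀ (b : ↥C) (s : S), b * c (ψ' s) = c (ψ' s) * b → b.1 (ψ s) = ψ s := fun b s h => by
    refine hinj ?_
    rw [← conj_conj_eq, mul_inv_eq_iff_eq_mul]
    exact congrArg Subtype.val h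
  have hcent' : ∀ b ∈ M, (∀ s, b * c (ψ' s) = c (ψ' s) * b) → b = 1 := fun b hb h =>
    Subtype.ext (hcent b.1 b.2.1 (Subgroup.mem_centralizer_singleton_iff.1 b.2.2)
      (by rw [Subgroup.orderOf_coe]; exact hMp b hb) (fun s => hfix b s (h s)))
  have hcomm : ∀ (b w : ↥C), b ∈ M → b * w * b⁻¹ * w⁻¹ ∈ M := fun b w hb => by
    rw [mul_assoc b, mul_assoc b]
    exact mul_mem hb (Subgroup.Normal.conj_mem inferInstance _ (inv_mem hb) _)
  have hW : ∀ k, c k ∈ M → k = 1 := fun k hk => hcinj (by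
    rw [map_one]
    refine hcent' _ hk fun s => ?_
    obtain ⟨s', hs'⟩ := hnorm k.1 k.2 s
    have he : c k * c (ψ' s) * (c k)⁻¹ = c (ψ' s') := by
      rw [← map_inv, ← map_mul, ← map_mul]
      exact congrArg c (Subtype.ext hs')
    have hmem : c (ψ' (s' * s⁻¹)) ∈ M := by
      rw [map_mul, map_inv, map_mul, map_inv, ← he]
      exact hcomm _ _ hk
    have h1 := hψtriv _ hmem
    rw [map_mul, map_inv, mul_inv_eq_one] at h1
    rw [show ψ' s' = ψ' s from Subtype.ext h1, mul_inv_eq_iff_eq_mul] at he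
    exact he)
  refine (Subgroup.eq_bot_iff_forall _).2 fun b hb => hcent' b hb fun s => ?_
  obtain ⟨k', -, hk'⟩ := exists_conj_fixHom A hinn x b (ψ' s)
  have hmem : c (k' * (ψ' s)⁻¹) ∈ M := by
    rw [map_mul, map_inv, ← hk']
    exact hcomm _ _ hb
  have h1 := hW _ hmem
  rw [mul_inv_eq_one] at h1
  rw [← mul_inv_eq_iff_eq_mul]
  exact hk'.trans (congrArg c h1)

/-- Conjugating the pair `(A, x)`. -/
theorem core_conj (a : MulAut K) :
    Cfsg.pPrimeCore p ↥(A.map (MulAut.conj a).toMonoidHom ⊓ Subgroup.centralizer {a * x * a⁻¹}) = ⊥ ↔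
      Cfsg.pPrimeCore p ↥(A ⊓ Subgroup.centralizer {x}) = ⊥ := by
  let e := MulAut.conj a
  have h : A.map e.toMonoidHom ⊓ Subgroup.centralizer {a * x * a⁻¹} =
      (A ⊓ Subgroup.centralizer {x}).map e.toMonoidHom := by
    rw [Subgroup.map_inf _ _ _ e.injective]
    congr 1
    ext y
    rw [Subgroup.mem_map_equiv, Subgroup.mem_centralizer_singleton_iff, Subgroup.mem_centralizer_singleton_iff]
    simp only [e, MulAut.conj_symm_apply]
    constructor <;> intro h
    · calc a⁻¹ * y * a * x = a⁻¹ * (y * (a * x * a⁻¹)) * a := by group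
        _ = _ := by rw [h]; group
    · calc y * (a * x * a⁻¹) = a * (a⁻¹ * y * a * x) * a⁻¹ := by group
        _ = _ := by rw [h]; group
  let E : ↥(A ⊓ Subgroup.centralizer {x}) ≃* ↥(A.map (MulAut.conj a).toMonoidHom ⊓ Subgroup.centralizer {a * x * a⁻¹}) :=
    ((A ⊓ Subgroup.centralizer {x}).equivMapOfInjective e.toMonoidHom e.injective).trans (MulEquiv.subgroupCongr h.symm)
  rw [← Core.map_pPrimeCore_equiv E, Subgroup.map_eq_bot_iff_of_injective _ E.injective]

omit [Finite K] in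
theorem inn_map (hinn : ∀ k : K, MulAut.conj k ∈ A) (a : MulAut K) (k : K) :
    MulAut.conj k ∈ A.map (MulAut.conj a).toMonoidHom :=
  ⟨MulAut.conj (a⁻¹ k), hinn _, by
    show a * MulAut.conj (a⁻¹ k) * a⁻¹ = _
    rw [conj_conj_eq, MulAut.inv_def, MulEquiv.apply_symm_apply]⟩

omit [Finite K] in
theorem card_fixed_conj (a : MulAut K) :
    Nat.card ↥(MonoidHom.eqLocus (a * x * a⁻¹).toMonoidHom (MonoidHom.id K)) =
      Nat.card ↥(MonoidHom.eqLocus x.toMonoidHom (MonoidHom.id K)) := by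
  refine Nat.card_congr (Equiv.subtypeEquiv a.toEquiv fun k => ?_).symm
  show x k = k ↔ (a * x * a⁻¹) (a k) = a k
  simp

end Cfsg.Lib.Linear.Balance
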