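import Cfsg.Agent.Lib.Linear.Balance.OddNormal

/-!
# Isometries of matrix forms

The group `SI N σ` of determinant-one matrices with `sᵀ N σ(s) = N`, its involutions attached to orthogonal pairs of
anisotropic vectors, and semilinear maps fixing every line.
-/

set_option autoImplicit false

namespace Cfsg.Lib.Linear.Balance

open Matrix Module
open scoped MatrixGroups

variable {n : ℕ} {F : Type*} [Field F]

local notation "V" => (Fin n → F)

/-- An invertible matrix as a linear automorphism of the column vectors. -/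
def toLE : GL (Fin n) F →* (V ≃ₗ[F] V) where
  toFun g :=
    { Matrix.mulVecLin g.val with
      invFun := fun x => (g⁻¹).val *ᵥ x
      left_inv := fun x => by
        show (g⁻¹).val *ᵥ (g.val *ᵥ x) = x
        rw [Matrix.mulVec_mulVec, Units.inv_mul, Matrix.one_mulVec]
      right_inv := fun x => by
        show g.val *ᵥ ((g⁻¹).val *ᵥ x) = x
        rw [Matrix.mulVec_mulVec, Units.mul_inv, Matrix.one_mulVec] }
  map_one' := LinearEquiv.ext fun x => Matrix.one_mulVec x
  map_mul' g h := LinearEquiv.ext fun x => (Matrix.mulVec_mulVec x g.val h.val).symm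

@[simp] theorem toLE_apply (g : GL (Fin n) F) (x : V) : toLE g x = g.val *ᵥ x := rfl

theorem toLE_surjective (h : V ≃ₗ[F] V) : ∃ g : GL (Fin n) F, toLE g = h := by
  refine ⟨⟨LinearMap.toMatrix' h.toLinearMap, LinearMap.toMatrix' h.symm.toLinearMap, ?_, ?_⟩, LinearEquiv.ext fun x => ?_⟩
  · rw [← LinearMap.toMatrix'_comp]
    simp
  · rw [← LinearMap.toMatrix'_comp]
    simp
  · exact LinearMap.toMatrix'_mulVec _ x

/-- A vector in two planes through `v` in general position lies on the line of `v`. -/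
theorem line_of_planes {M : Type*} [AddCommGroup M] [Module F M] {v a b y : M}
    (hli : LinearIndependent F ![v, a, b]) (ha : y ∈ Submodule.span F ({v, a} : Set M))
    (hb : y ∈ Submodule.span F ({v, b} : Set M)) : ∃ c : F, y = c • v := by
  obtain ⟨p, q, hpq⟩ := Submodule.mem_span_pair.1 ha
  obtain ⟨p', q', hpq'⟩ := Submodule.mem_span_pair.1 hb
  have h0 : (p - p') • v + q • a + (-q') • b = 0 := by linear_combination (norm := module) hpq - hpq'
  have := Fintype.linearIndependent_iff.1 hli ![p - p', q, -q'] (by simpa [Fin.sum_univ_three] using h0) 1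
  simp at this
  exact ⟨p, by rw [← hpq, this, zero_smul, add_zero]⟩

/-- A semilinear map fixing every line is a scalar. -/
theorem semilinear_lines (hn : 2 ≤ n) (T : GL (Fin n) F) (τ : F ≃+* F)
    (h : ∀ v : V, ∃ a : F, T.val *ᵥ (τ ∘ v) = a • v) :
    τ = 1 ∧ T.val ∈ Set.range (Matrix.scalar (Fin n) : F → Matrix (Fin n) (Fin n) F) := by
  have hs : ∀ (i : Fin n) (c : F), τ ∘ (Pi.single i c : V) = Pi.single i (τ c) := fun i c => funext fun j => by
    simp [Pi.single_apply, apply_ite τ]
  choose a ha using fun i => h (Pi.single i 1)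
  simp only [hs, map_one, Matrix.mulVec_single_one] at ha
  have hT : ∀ i j, T.val j i = if j = i then a i else 0 := fun i j => by
    have := congrFun (ha i) j
    simpa [Pi.single_apply] using this
  have hpair : ∀ i j, i ≠ j → ∀ c : F, c * a i = τ c * a j ∨ c = 0 := by
    intro i j hij c
    obtain ⟨b, hb⟩ := h (Pi.single i 1 + Pi.single j c)
    rw [show τ ∘ (Pi.single i 1 + Pi.single j c : V) = Pi.single i 1 + Pi.single j (τ c) from funext fun k => by
      simp [Pi.single_apply]; split_ifs <;> simp [*], Matrix.mulVec_add, Matrix.mulVec_single_one] at hb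
    have c1 := congrFun hb i
    have c2 := congrFun hb j
    simp [Matrix.mulVec_single, hij, hij.symm, hT] at c1 c2
    left
    rw [c1]
    linear_combination -c2
  have hall : ∀ i j, a i = a j := fun i j => by
    rcases eq_or_ne i j with rfl | hij
    · rfl
    · simpa using hpair i j hij 1
  obtain ⟨i, j, hij⟩ : ∃ i j : Fin n, i ≠ j := ⟨⟨0, by omega⟩, ⟨1, by omega⟩, by simp⟩
  have ha0 : a i ≠ 0 := fun h0 => by
    have h1 : T.val = 0 := Matrix.ext fun k l => by rw [hT, hall l i, h0]; simp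
    have h2 := Units.mul_inv T
    rw [h1, Matrix.zero_mul] at h2
    exact one_ne_zero (α := F) (by simpa using (congrFun (congrFun h2 i) i).symm)
  refine ⟨RingEquiv.ext fun c => ?_, a i, Matrix.ext fun k l => by rw [hT, hall l i]; simp [Matrix.diagonal_apply]⟩
  rcases hpair i j hij c with h1 | h1
  · rw [hall j i] at h1
    exact (mul_right_cancel₀ ha0 h1).symm
  · rw [h1, map_zero]
    simp

variable (N : GL (Fin n) F) (σ : F ≃+* F)

/-- The sesquilinear form of a matrix. -/
def mForm (u v : V) : F := u ⬝ᵥ (N.val *ᵥ (σ ∘ v))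

theorem comp_mulVec (τ : F ≃+* F) (A : Matrix (Fin n) (Fin n) F) (v : V) : τ ∘ (A *ᵥ v) = A.map τ *ᵥ (τ ∘ v) := by
  funext i
  simp [Matrix.mulVec, dotProduct, map_sum, map_mul]

/-- The determinant-one matrices preserving the form of `N`. -/
def SI : Subgroup (SpecialLinearGroup (Fin n) F) where
  carrier := {s | s.1.transpose * N.val * s.1.map σ = N.val}
  one_mem' := by simp
  mul_mem' := by
    intro s t hs ht
    change (s.1 * t.1).transpose * N.val * (s.1 * t.1).map σ = N.val
    change s.1.transpose * N.val * s.1.map σ = N.val at hs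
    change t.1.transpose * N.val * t.1.map σ = N.val at ht
    rw [Matrix.transpose_mul, Matrix.map_mul]
    calc t.1.transpose * s.1.transpose * N.val * (s.1.map σ * t.1.map σ)
        = t.1.transpose * (s.1.transpose * N.val * s.1.map σ) * t.1.map σ := by simp only [Matrix.mul_assoc]
      _ = _ := by rw [hs, ht]
  inv_mem' := by
    intro s hs
    change s.1.transpose * N.val * s.1.map σ = N.val at hs
    change (s⁻¹).1.transpose * N.val * (s⁻¹).1.map σ = N.val
    have h1 : s.1 * (s⁻¹).1 = 1 := by rw [← Matrix.SpecialLinearGroup.coe_mul, mul_inv_cancel]; rfl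
    conv_lhs => arg 1; arg 2; rw [← hs]
    calc (s⁻¹).1.transpose * (s.1.transpose * N.val * s.1.map σ) * (s⁻¹).1.map σ
        = (s.1 * (s⁻¹).1).transpose * N.val * (s.1 * (s⁻¹).1).map σ := by
          rw [Matrix.transpose_mul, Matrix.map_mul]; simp only [Matrix.mul_assoc]
      _ = _ := by rw [h1, Matrix.transpose_one, Matrix.map_one σ (map_zero σ) (map_one σ), one_mul, mul_one]

theorem mem_SI {s : SpecialLinearGroup (Fin n) F} : s ∈ SI N σ ↔ s.1.transpose * N.val * s.1.map σ = N.val := Iff.rfl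

theorem mForm_mulVec (A : Matrix (Fin n) (Fin n) F) (u v : V) :
    mForm N σ (A *ᵥ u) (A *ᵥ v) = u ⬝ᵥ ((A.transpose * N.val * A.map σ) *ᵥ (σ ∘ v)) := by
  rw [mForm, comp_mulVec, dotProduct_comm, ← Matrix.mulVec_mulVec, ← Matrix.mulVec_mulVec,
    Matrix.dotProduct_mulVec u, Matrix.vecMul_transpose, dotProduct_comm]

theorem iso_iff {A : Matrix (Fin n) (Fin n) F} :
    A.transpose * N.val * A.map σ = N.val ↔ ∀ u v, mForm N σ (A *ᵥ u) (A *ᵥ v) = mForm N σ u v := by
  constructor
  · intro h u v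
    rw [mForm_mulVec, h]
    rfl
  · intro h
    ext i j
    have hs : σ ∘ (Pi.single j 1 : V) = Pi.single j 1 := funext fun k => by simp [Pi.single_apply, apply_ite σ]
    have h1 := h (Pi.single i 1) (Pi.single j 1)
    rw [mForm_mulVec, mForm, hs] at h1
    simpa using h1

/-- The form of a Hermitian or symmetric matrix. -/
def formOf (hN : N.val.transpose = N.val.map σ) (hinv : ∀ x, σ (σ x) = x) : RForm σ V where
  B := mForm N σ
  add_left u v w := add_dotProduct _ _ _
  smul_left c u w := smul_dotProduct _ _ _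
  symm u v := by
    show v ⬝ᵥ (N.val *ᵥ (σ ∘ u)) = σ (u ⬝ᵥ (N.val *ᵥ (σ ∘ v)))
    have hσσ : σ ∘ (σ ∘ v) = v := funext fun i => hinv (v i)
    rw [show σ (u ⬝ᵥ (N.val *ᵥ (σ ∘ v))) = (σ ∘ u) ⬝ᵥ (σ ∘ (N.val *ᵥ (σ ∘ v))) from by
      simp [dotProduct, map_sum, map_mul], comp_mulVec, hσσ, ← hN, Matrix.dotProduct_mulVec v,
      ← Matrix.mulVec_transpose, dotProduct_comm]
  ndeg u hu := by
    refine funext fun i => ?_
    have h := hu (σ ∘ ((N⁻¹).val *ᵥ Pi.single i 1))
    rw [mForm, show σ ∘ (σ ∘ ((N⁻¹).val *ᵥ (Pi.single i 1 : V))) = (N⁻¹).val *ᵥ Pi.single i 1 from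
      funext fun j => hinv _, Matrix.mulVec_mulVec, Units.mul_inv, Matrix.one_mulVec, dotProduct_single_one] at h
    exact h
  invol := hinv

theorem formOf_B (hN : N.val.transpose = N.val.map σ) (hinv : ∀ x, σ (σ x) = x) (u v : V) :
    (formOf N σ hN hinv).B u v = mForm N σ u v := rfl

variable {N σ} (hN : N.val.transpose = N.val.map σ) (hinv : ∀ x, σ (σ x) = x)

local notation "Φ" => formOf N σ hN hinv

theorem exists_refl_matrix {u : V} (hu : (Φ).B u u ≠ 0) :
    ∃ A : Matrix (Fin n) (Fin n) F, A.det = -1 ∧ ∀ x, A *ᵥ x = (Φ).refl hu x := by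
  set c := -(2 / (Φ).B u u) with hc
  set r : V := N.val *ᵥ (σ ∘ u) with hr
  refine ⟨1 + replicateCol Unit (c • u) * replicateRow Unit r, ?_, fun x => ?_⟩
  · rw [Matrix.det_one_add_replicateCol_mul_replicateRow, dotProduct_smul, hr, dotProduct_comm]
    show 1 + c * (Φ).B u u = -1
    rw [hc, neg_mul, div_mul_cancel₀ _ hu]
    ring
  · rw [Matrix.add_mulVec, Matrix.one_mulVec, ← Matrix.mulVec_mulVec, RForm.refl_apply, sub_eq_add_neg, ← neg_smul]
    congr 1
    funext i
    simp only [Matrix.mulVec, dotProduct, Matrix.replicateCol_apply, Matrix.replicateRow_apply, Fintype.univ_unit,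
      Finset.sum_singleton, Pi.smul_apply, smul_eq_mul]
    rw [show (∑ j, r j * x j) = (Φ).B x u from dotProduct_comm r x, hc]
    ring

/-- The element `-1` on a plane with an orthogonal anisotropic basis, `1` on its orthogonal. -/
theorem exists_pair_elt {u w : V} (h : (Φ).GoodPair u w) :
    ∃ s : SpecialLinearGroup (Fin n) F, s ∈ SI N σ ∧ s * s = 1 ∧
      ∀ x, s.1 *ᵥ x = (Φ).refl h.1 ((Φ).refl h.2.1 x) := by
  obtain ⟨A, hA, hAx⟩ := exists_refl_matrix hN hinv h.1
  obtain ⟨A', hA', hA'x⟩ := exists_refl_matrix hN hinv h.2.1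
  let s : SpecialLinearGroup (Fin n) F := ⟨A * A', by rw [Matrix.det_mul, hA, hA']; ring⟩
  have hs : ∀ x, s.1 *ᵥ x = (Φ).refl h.1 ((Φ).refl h.2.1 x) := fun x => by
    show (A * A') *ᵥ x = _
    rw [← Matrix.mulVec_mulVec, hA'x, hAx]
  refine ⟨s, (iso_iff N σ).2 fun x y => ?_, Subtype.ext (Matrix.toLin'.injective (LinearMap.ext fun x => ?_)), hs⟩
  · rw [hs, hs]
    exact ((Φ).refl_iso h.1 _ _).trans ((Φ).refl_iso h.2.1 _ _)
  · show (s.1 * s.1) *ᵥ x = (1 : Matrix (Fin n) (Fin n) F) *ᵥ x
    rw [← Matrix.mulVec_mulVec, hs, hs, Matrix.one_mulVec]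
    have hcomm : ∀ z, (Φ).refl h.1 ((Φ).refl h.2.1 z) = (Φ).refl h.2.1 ((Φ).refl h.1 z) := fun z => by
      simp only [RForm.refl_apply, RForm.sub_left, RForm.smul_left, h.2.2, (Φ).comm_zero h.2.2, mul_zero, sub_zero]
      abel
    rw [hcomm x, RForm.refl_refl_apply, RForm.refl_refl_apply]

/-- The eigenspace of `-1`. -/
theorem mem_span_of_neg (h2 : (2 : F) ≠ 0) {u w x : V} (h : (Φ).GoodPair u w)
    (hx : (Φ).refl h.1 ((Φ).refl h.2.1 x) = -x) : x ∈ Submodule.span F ({u, w} : Set V) := by
  rw [RForm.refl_apply, RForm.refl_apply] at hx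
  simp only [RForm.sub_left, RForm.smul_left, h.2.2, mul_zero, sub_zero] at hx
  refine Submodule.mem_span_pair.2 ⟨(Φ).B x u / (Φ).B u u, (Φ).B x w / (Φ).B w w, ?_⟩
  refine smul_right_injective V h2 ?_
  linear_combination (norm := module) -hx

end Cfsg.Lib.Linear.Balance
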