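import Cfsg.Agent.Lib.Linear.Balance.RForm

/-!
# Odd normal subgroups of isometry groups

For a nondegenerate symmetric or Hermitian form of dimension at least three over a finite field of odd characteristic, a
subgroup normalised by all isometries that has odd order modulo the scalars consists of scalars.
-/

set_option autoImplicit false

namespace Cfsg.Lib.Linear.Balance.RForm

open Module
open scoped LinearAlgebra.Projectivization

universe u v

variable {F : Type u} [Field F] {σ : F ≃+* F} {V : Type v} [AddCommGroup V] [Module F V] (φ : RForm σ V)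

/-- The scalar automorphisms. -/
def scal (F : Type*) [Field F] (V : Type*) [AddCommGroup V] [Module F V] : Subgroup (V ≃ₗ[F] V) where
  carrier := {g | ∃ c : F, ∀ x, g x = c • x}
  one_mem' := ⟨1, fun x => (one_smul F x).symm⟩
  mul_mem' := by
    rintro g h ⟨c, hc⟩ ⟨d, hd⟩
    exact ⟨c * d, fun x => by show g (h x) = _; rw [hd, hc, smul_smul]⟩
  inv_mem' := by
    rintro g ⟨c, hc⟩
    refine ⟨c⁻¹, fun x => g.injective ?_⟩
    rw [LinearEquiv.coe_inv, g.apply_symm_apply]
    rcases eq_or_ne c 0 with rfl | h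
    · have hx : x = 0 := g.injective (by rw [hc, zero_smul, map_zero])
      simp [hx]
    · rw [hc, smul_smul, mul_inv_cancel₀ h, one_smul]

theorem mem_scal {g : V ≃ₗ[F] V} : g ∈ scal F V ↔ ∃ c : F, ∀ x, g x = c • x := Iff.rfl

theorem scal_comm {z : V ≃ₗ[F] V} (hz : z ∈ scal F V) (g : V ≃ₗ[F] V) : Commute z g := by
  obtain ⟨c, hc⟩ := hz
  refine LinearEquiv.ext fun x => ?_
  show z (g x) = g (z x)
  rw [hc, hc, map_smul]

theorem mem_scal_of_sq {g : V ≃ₗ[F] V} {k : ℕ} (hk : Odd k) (h : g ^ k ∈ scal F V) (h' : g ^ 2 ∈ scal F V) :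
    g ∈ scal F V := by
  obtain ⟨m, rfl⟩ := hk
  rw [pow_succ, pow_mul] at h
  simpa using mul_mem (inv_mem (pow_mem h' m)) h

theorem IsIso.inv {g : V ≃ₗ[F] V} (hg : φ.IsIso g) : φ.IsIso g⁻¹ := fun x y => by
  conv_rhs => rw [← g.apply_symm_apply x, ← g.apply_symm_apply y, hg]
  rfl

theorem IsIso.conj {g h : V ≃ₗ[F] V} (hg : φ.IsIso g) (hh : φ.IsIso h) : φ.IsIso (h * g * h⁻¹) :=
  IsIso.mul φ (IsIso.mul φ hh hg) (IsIso.inv φ hh)

theorem exists_sum_norm [Finite F] (h2 : (2 : F) ≠ 0) (hinv : ∀ x, σ (σ x) = x) {a b c : F} (ha : a ≠ 0) (hb : b ≠ 0)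
    (hc : c ≠ 0) (ha' : σ a = a) (hc' : σ c = c) :
    ∃ x y : F, a * (x * σ x) + b * (y * σ y) = c := by
  classical
  haveI : Fintype F := Fintype.ofFinite F
  by_cases hσ : σ = 1
  · have hodd : Fintype.card F % 2 = 1 := FiniteField.odd_card_of_char_ne_two fun h => h2 (by
      haveI := ringChar.charP F
      have := (CharP.cast_eq_zero_iff F (ringChar F) 2).2 (by rw [h])
      exact_mod_cast this)
    obtain ⟨x, y, hxy⟩ := FiniteField.exists_root_sum_quadratic
      (f := Polynomial.C a * Polynomial.X ^ 2 - Polynomial.C c) (g := Polynomial.C b * Polynomial.X ^ 2)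
      (by rw [Polynomial.degree_sub_eq_left_of_degree_lt] <;> simp [ha, hc])
      (by simp [hb]) hodd
    refine ⟨x, y, ?_⟩
    subst hσ
    simp at hxy
    show a * (x * x) + b * (y * y) = c
    linear_combination hxy
  · haveI : Fact (Nat.Prime 2) := ⟨Nat.prime_two⟩
    have h := orderOf_eq_prime (p := 2) (show σ ^ 2 = 1 from RingEquiv.ext hinv) hσ
    obtain ⟨x, hx⟩ := Descent.exists_norm h (a := c / a) (div_ne_zero hc ha) (by rw [map_div₀, ha', hc'])
    exact ⟨x, 0, by rw [hx, zero_mul, mul_zero, add_zero, mul_div_cancel₀ _ ha]⟩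

/-- A hyperbolic pair and a vector spanning its orthogonal. -/
structure Frame (e f w : V) : Prop where
  ee : φ.B e e = 0
  ff : φ.B f f = 0
  ef : φ.B e f = 1
  we : φ.B w e = 0
  wf : φ.B w f = 0
  ww : φ.B w w ≠ 0

variable {φ} in
theorem Frame.fe {e f w : V} (P : φ.Frame e f w) : φ.B f e = 1 := by rw [φ.symm e f, P.ef, map_one]

section Three

variable [FiniteDimensional F V] (h3 : finrank F V = 3)

include h3

theorem Frame.ext {e f w x y : V} (P : φ.Frame e f w) (he : φ.B x e = φ.B y e) (hf : φ.B x f = φ.B y f)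
    (hw : φ.B x w = φ.B y w) : x = y := by
  let L : V →ₗ[F] F × F × F := (φ.lin e).prod ((φ.lin f).prod (φ.lin w))
  have hL : Function.Surjective L := fun ⟨a, b, c⟩ => ⟨b • e + a • f + (c / φ.B w w) • w, by
    simp [L, φ.add_left, φ.smul_left, P.ee, P.ff, P.ef, P.fe, P.we, P.wf, φ.comm_zero P.we, φ.comm_zero P.wf,
      div_mul_cancel₀ _ P.ww]⟩
  exact (LinearMap.injective_iff_surjective_of_finrank_eq_finrank (by simp [h3])).2 hL
    (show L x = L y by simp [L, he, hf, hw])

theorem Frame.decomp {e f w : V} (P : φ.Frame e f w) (x : V) :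
    x = φ.B x f • e + φ.B x e • f + (φ.B x w / φ.B w w) • w := by
  refine Frame.ext φ h3 P ?_ ?_ ?_ <;>
    simp [φ.add_left, φ.smul_left, P.ee, P.ff, P.ef, P.fe, P.we, P.wf, φ.comm_zero P.we, φ.comm_zero P.wf,
      div_mul_cancel₀ _ P.ww]

theorem Frame.form {e f w : V} (P : φ.Frame e f w) (x y : V) :
    φ.B x y = φ.B x f * σ (φ.B y e) + φ.B x e * σ (φ.B y f) + φ.B x w / φ.B w w * σ (φ.B y w) := by
  conv_lhs => rw [Frame.decomp φ h3 P x]
  simp only [φ.add_left, φ.smul_left, ← φ.symm y e, ← φ.symm y f, ← φ.symm y w]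

/-- Frames with the same norm are isometric. -/
theorem Frame.exists_map {e f w e' f' w' : V} (P : φ.Frame e f w) (Q : φ.Frame e' f' w')
    (hw : φ.B w' w' = φ.B w w) : ∃ T : V ≃ₗ[F] V, φ.IsIso T ∧ T e = e' ∧ T f = f' := by
  let L : V →ₗ[F] V := (φ.lin f).smulRight e' + (φ.lin e).smulRight f' + ((φ.B w w)⁻¹ • φ.lin w).smulRight w'
  have hL : ∀ x, L x = φ.B x f • e' + φ.B x e • f' + (φ.B x w / φ.B w w) • w' := fun x => by
    simp [L, div_eq_inv_mul]
  have hiso : ∀ x y, φ.B (L x) (L y) = φ.B x y := by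
    intro x y
    rw [Frame.form φ h3 P x y, hL, hL]
    simp only [φ.add_left, φ.add_right, φ.smul_left, φ.smul_right, Q.ee, Q.ff, Q.ef, Q.fe, Q.we, Q.wf,
      φ.comm_zero Q.we, φ.comm_zero Q.wf, hw, map_div₀, φ.self_fix, mul_zero, mul_one, add_zero, zero_add]
    have := P.ww
    field_simp
  have hinj : Function.Injective L := fun x y h => sub_eq_zero.1 (φ.ndeg _ fun z => by
    rw [← hiso, map_sub, h, sub_self, φ.zero_left])
  refine ⟨LinearEquiv.ofInjectiveEndo L hinj, hiso, ?_, ?_⟩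
  · show L e = e'
    rw [hL, P.ef, P.ee, φ.comm_zero P.we]; simp
  · show L f = f'
    rw [hL, P.ff, P.fe, φ.comm_zero P.wf]; simp

theorem exists_frame (h2 : (2 : F) ≠ 0) {e : V} (he : e ≠ 0) (hee : φ.B e e = 0) : ∃ f w, φ.Frame e f w := by
  obtain ⟨v, hv⟩ := φ.exists_eq_one he
  set f := v - (φ.B v v / 2) • e with hf
  have hve : φ.B v e = 1 := by rw [φ.symm e v, hv, map_one]
  have hef : φ.B e f = 1 := by rw [hf, φ.sub_right, φ.smul_right, hee, hv, mul_zero, sub_zero]
  have hfe : φ.B f e = 1 := by rw [φ.symm e f, hef, map_one]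
  have hff : φ.B f f = 0 := by
    rw [hf]
    simp only [φ.sub_left, φ.sub_right, φ.smul_left, φ.smul_right, hee, hv, hve, map_div₀, map_ofNat, φ.self_fix,
      mul_zero, sub_zero, mul_one]
    field_simp
    ring
  let L : V →ₗ[F] F × F := (φ.lin e).prod (φ.lin f)
  have hL : LinearMap.range L = ⊤ := LinearMap.range_eq_top.2 fun ⟨a, b⟩ => ⟨b • e + a • f, by
    simp [L, φ.add_left, φ.smul_left, hee, hff, hef, hfe]⟩
  have hk := LinearMap.finrank_range_add_finrank_ker L
  rw [hL, finrank_top, finrank_prod, finrank_self, h3] at hk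
  have hk1 : finrank F (LinearMap.ker L) = 1 := by omega
  obtain ⟨⟨w, hwk⟩, hw0, hspan⟩ := finrank_eq_one_iff'.1 hk1
  have hwe : φ.B w e = 0 := congrArg Prod.fst (LinearMap.mem_ker.1 hwk)
  have hwf : φ.B w f = 0 := congrArg Prod.snd (LinearMap.mem_ker.1 hwk)
  refine ⟨f, w, hee, hff, hef, hwe, hwf, fun h0 => ?_⟩
  refine hw0 (Subtype.ext (φ.ndeg w fun x => ?_))
  set x' := x - φ.B x f • e - φ.B x e • f with hx'
  have hxk : x' ∈ LinearMap.ker L := by
    rw [LinearMap.mem_ker]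
    simp [L, hx', φ.smul_left, φ.sub_left, hee, hff, hef, hfe]
  obtain ⟨c, hc⟩ := hspan ⟨x', hxk⟩
  have h1 : φ.B w x' = 0 := by
    rw [show x' = c • w from (congrArg Subtype.val hc).symm, φ.smul_right, h0, mul_zero]
  simpa [hx', φ.sub_right, φ.smul_right, hwe, hwf] using h1

theorem exists_isotropic [Finite F] (h2 : (2 : F) ≠ 0) : ∃ e, e ≠ 0 ∧ φ.B e e = 0 := by
  haveI : Nontrivial V := Module.nontrivial_of_finrank_pos (R := F) (by omega)
  obtain ⟨u, hu⟩ := φ.exists_aniso h2 (exists_ne 0)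
  obtain ⟨v, hv, hvu⟩ := φ.exists_aniso_perp h2 (by omega) hu
  obtain ⟨w, hw, hwu, hwv⟩ := φ.exists_aniso_perp2 h2 (by omega) hu hv hvu
  obtain ⟨x, y, hxy⟩ := exists_sum_norm (σ := σ) h2 φ.invol hu hv (neg_ne_zero.2 hw) (φ.self_fix u)
    (by rw [map_neg, φ.self_fix])
  refine ⟨x • u + y • v + w, fun h0 => hw ?_, ?_⟩
  · have h := congrArg (fun z => φ.B z w) h0
    simpa [φ.add_left, φ.smul_left, φ.comm_zero hwu, φ.comm_zero hwv, φ.zero_left] using h
  · simp only [φ.add_left, φ.add_right, φ.smul_left, φ.smul_right, hvu, hwu, hwv, φ.comm_zero hvu, φ.comm_zero hwu,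
      φ.comm_zero hwv]
    linear_combination hxy

theorem isotropic_pair {e f w : V} (P : φ.Frame e f w) {x : V} (hxx : φ.B x x = 0) (hxe : φ.B x e = 0) :
    x = φ.B x f • e := by
  have h := Frame.form φ h3 P x x
  rw [hxx, hxe, map_zero, mul_zero, zero_mul, zero_add, zero_add] at h
  have hxw : φ.B x w = 0 := by
    rcases mul_eq_zero.1 h.symm with h | h
    · exact (div_eq_zero_iff.1 h).resolve_right P.ww
    · exact (map_eq_zero σ).1 h
  conv_lhs => rw [Frame.decomp φ h3 P x, hxe, hxw, zero_div, zero_smul, zero_smul, add_zero, add_zero]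

/-- The isotropic points. -/
abbrev Pts : Type v := {p : ℙ F V // φ.B p.rep p.rep = 0}

omit h3 in
omit [FiniteDimensional F V] in
theorem iso_rep {v : V} (hv : v ≠ 0) :
    φ.B (Projectivization.mk F v hv).rep (Projectivization.mk F v hv).rep = 0 ↔ φ.B v v = 0 := by
  obtain ⟨a, ha⟩ := Projectivization.exists_smul_eq_mk_rep F v hv
  rw [← ha, Units.smul_def, φ.smul_left, φ.smul_right]
  simp [(map_ne_zero σ).2 a.ne_zero]

/-- The number of isotropic points is even. -/
theorem even_pts [Finite F] (h2 : (2 : F) ≠ 0) {e f w : V} (P : φ.Frame e f w) : Even (Nat.card φ.Pts) := by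
  classical
  haveI : Finite V := Module.finite_of_finite F
  haveI : Fintype φ.Pts := Fintype.ofFinite _
  let L₁ : V ≃ₗ[F] V := φ.refl P.ww
  have hL₂i : ∀ x : V, x - (2 * φ.B x e) • f - (2 * φ.B (x - (2 * φ.B x e) • f) e) • f = x := fun x => by
    rw [φ.sub_left, φ.smul_left, P.fe]
    match_scalars <;> ring
  let L₂ : V ≃ₗ[F] V := LinearEquiv.ofInvolutive (LinearMap.id - ((2 : F) • φ.lin e).smulRight f) fun x => by
    simpa using hL₂i x
  have hL₂ : ∀ x, L₂ x = x - (2 * φ.B x e) • f := fun x => rfl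
  have hiso₂ : ∀ x, φ.B x x = 0 → φ.B x w = 0 → φ.B (L₂ x) (L₂ x) = 0 := by
    intro x hxx hxw
    have hx := Frame.form φ h3 P x x
    rw [hxx, hxw, zero_div, zero_mul, add_zero] at hx
    rw [Frame.form φ h3 P (L₂ x) (L₂ x), hL₂]
    simp only [φ.sub_left, φ.smul_left, P.ff, P.fe, φ.comm_zero P.wf, hxw, mul_zero, sub_zero, zero_div, zero_mul,
      add_zero, mul_one]
    rw [map_sub, map_mul, map_ofNat]
    linear_combination hx
  let Φv : V → V := fun x => if φ.B x w = 0 then L₂ x else L₁ x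
  have hw₁ : ∀ x, φ.B (L₁ x) w = -φ.B x w := fun x => by
    show φ.B (φ.refl P.ww x) w = _
    rw [refl_apply, φ.sub_left, φ.smul_left]
    field_simp [P.ww]
    ring
  have hw₂ : ∀ x, φ.B (L₂ x) w = φ.B x w := fun x => by
    rw [hL₂, φ.sub_left, φ.smul_left, φ.comm_zero P.wf, mul_zero, sub_zero]
  have hΦ0 : ∀ {x : V}, x ≠ 0 → Φv x ≠ 0 := fun {x} hx => by
    simp only [Φv]
    split_ifs
    · exact fun h => hx (L₂.injective (h.trans (map_zero L₂).symm))
    · exact fun h => hx (L₁.injective (h.trans (map_zero L₁).symm))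
  have hΦiso : ∀ x, φ.B x x = 0 → φ.B (Φv x) (Φv x) = 0 := fun x hx => by
    simp only [Φv]
    split_ifs with h
    · exact hiso₂ x hx h
    · rw [φ.refl_iso P.ww x x, hx]
  have hΦs : ∀ (a : F) x, a ≠ 0 → Φv (a • x) = a • Φv x := fun a x ha => by
    simp only [Φv, φ.smul_left, mul_eq_zero, or_iff_right ha]
    split_ifs <;> rw [map_smul]
  have hΦΦ : ∀ x, Φv (Φv x) = x := fun x => by
    by_cases h : φ.B x w = 0
    · simp only [Φv, if_pos h, hw₂]
      exact hL₂i x
    · simp only [Φv, if_neg h, hw₁, neg_eq_zero]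
      exact φ.refl_refl_apply P.ww x
  let Φ : φ.Pts → φ.Pts := fun p =>
    ⟨Projectivization.mk F (Φv p.1.rep) (hΦ0 p.1.rep_nonzero), (φ.iso_rep _).2 (hΦiso _ p.2)⟩
  have hΦmk : ∀ (p : φ.Pts) (x : V) (hx : x ≠ 0), p.1 = Projectivization.mk F x hx →
      (Φ p).1 = Projectivization.mk F (Φv x) (hΦ0 hx) := by
    intro p x hx hp
    obtain ⟨a, ha⟩ := Projectivization.exists_smul_eq_mk_rep F x hx
    rw [← hp] at ha
    refine (Projectivization.mk_eq_mk_iff' F _ _ _ _).2 ⟨a, ?_⟩
    rw [← hΦs _ _ a.ne_zero, ← Units.smul_def, ha]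
  have hinv : Function.Involutive Φ := fun p => Subtype.ext (by
    rw [hΦmk (Φ p) _ (hΦ0 p.1.rep_nonzero) rfl]
    simp only [hΦΦ, Projectivization.mk_rep])
  have hpow : hinv.toPerm ^ 2 ^ 1 = 1 := Equiv.ext fun p => hinv p
  have key := Equiv.Perm.card_compl_support_modEq (p := 2) hpow
  have he0 : e ≠ 0 := φ.ne_zero_of (u := e) (v := f) (by rw [P.ef]; exact one_ne_zero)
  have hf0 : f ≠ 0 := φ.ne_zero_of (u := f) (v := e) (by rw [P.fe]; exact one_ne_zero)
  let pe : φ.Pts := ⟨_, (φ.iso_rep he0).2 P.ee⟩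
  let pf : φ.Pts := ⟨_, (φ.iso_rep hf0).2 P.ff⟩
  have hfix : (hinv.toPerm).supportᶜ = {pe, pf} := by
    ext p
    simp only [Finset.mem_compl, Equiv.Perm.mem_support, not_not, Finset.mem_insert, Finset.mem_singleton]
    show Φ p = p ↔ _
    constructor
    · intro hp
      obtain ⟨a, ha⟩ := (Projectivization.mk_eq_mk_iff' F _ _ (hΦ0 p.1.rep_nonzero) p.1.rep_nonzero).1
        ((congrArg Subtype.val hp).trans p.1.mk_rep.symm)
      set x := p.1.rep with hx
      by_cases h : φ.B x w = 0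
      · simp only [Φv, if_pos h, hL₂] at ha
        have c1 := congrArg (fun z => φ.B z f) ha
        have c2 := congrArg (fun z => φ.B z e) ha
        simp only [φ.smul_left, φ.sub_left, P.ff, P.fe, mul_zero, sub_zero, mul_one] at c1 c2
        have hpr := Frame.decomp φ h3 P x
        rw [h, zero_div, zero_smul, add_zero] at hpr
        by_cases hxf : φ.B x f = 0
        · right
          refine Subtype.ext (p.1.mk_rep.symm.trans ((Projectivization.mk_eq_mk_iff' F _ _ _ hf0).2 ⟨φ.B x e, ?_⟩))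
          conv_rhs => rw [← hx, hpr, hxf, zero_smul, zero_add]
        · left
          have ha1 : a = 1 := (mul_eq_right₀ hxf).1 c1
          rw [ha1, one_mul] at c2
          have hxe : φ.B x e = 0 := by
            have h' : (2 : F) * φ.B x e = 0 := by linear_combination c2
            exact (mul_eq_zero.1 h').resolve_left h2
          refine Subtype.ext (p.1.mk_rep.symm.trans ((Projectivization.mk_eq_mk_iff' F _ _ _ he0).2 ⟨φ.B x f, ?_⟩))
          conv_rhs => rw [← hx, hpr, hxe, zero_smul, add_zero]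
      · exfalso
        simp only [Φv, if_neg h] at ha
        have c3 := congrArg (fun z => φ.B z w) ha
        simp only [φ.smul_left, hw₁] at c3
        have ha1 : a = -1 := mul_right_cancel₀ h (c3.trans (neg_one_mul _).symm)
        rw [ha1, neg_one_smul] at ha
        have hx' := φ.eq_smul_of_refl P.ww h2 ha.symm
        have hpp : φ.B x x = 0 := p.2
        rw [hx', φ.smul_left, φ.smul_right] at hpp
        simp [P.ww, h] at hpp
    · rintro (rfl | rfl) <;> refine Subtype.ext ?_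
      · rw [hΦmk pe e he0 rfl]
        simp only [Φv, if_pos (φ.comm_zero P.we), hL₂, P.ee, mul_zero, zero_smul, sub_zero]
        rfl
      · rw [hΦmk pf f hf0 rfl]
        refine (Projectivization.mk_eq_mk_iff' F _ _ _ hf0).2 ⟨-1, ?_⟩
        simp only [Φv, if_pos (φ.comm_zero P.wf), hL₂, P.fe]
        match_scalars
        ring
  have hne : pe ≠ pf := fun h => by
    obtain ⟨a, ha⟩ := (Projectivization.mk_eq_mk_iff' F _ _ he0 hf0).1 (congrArg Subtype.val h)
    have := congrArg (fun z => φ.B z e) ha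
    simp only [φ.smul_left, P.fe, P.ee, mul_one] at this
    rw [this, zero_smul] at ha
    exact he0 ha.symm
  rw [hfix, Finset.card_pair hne] at key
  rw [Nat.card_eq_fintype_card, Nat.even_iff]
  have := key.symm
  rwa [Nat.ModEq, Nat.mod_self] at this

/-- Dimension three. -/
theorem three_mem_scal [Finite F] (h2 : (2 : F) ≠ 0) (N : Subgroup (V ≃ₗ[F] V)) (hiso : ∀ g ∈ N, φ.IsIso g)
    (hnorm : ∀ h, φ.IsIso h → ∀ g ∈ N, h * g * h⁻¹ ∈ N) (hodd : ∀ g ∈ N, ∃ k, Odd k ∧ g ^ k ∈ scal F V)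
    {g : V ≃ₗ[F] V} (hg : g ∈ N) : g ∈ scal F V := by
  classical
  haveI : Finite V := Module.finite_of_finite F
  haveI : Fintype φ.Pts := Fintype.ofFinite _
  let act : N → φ.Pts → φ.Pts := fun k p => ⟨k.1 • p.1, by
    conv_lhs => rw [← p.1.mk_rep, Projectivization.smul_mk]
    exact (φ.iso_rep _).2 ((hiso _ k.2 _ _).trans p.2)⟩
  letI : MulAction N φ.Pts :=
    { smul := act
      one_smul := fun p => Subtype.ext (one_smul _ p.1)
      mul_smul := fun k l p => Subtype.ext (mul_smul k.1 l.1 p.1) }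
  have hsmul : ∀ (k : N) (p : φ.Pts), (k • p).1 = k.1 • p.1 := fun k p => rfl
  -- every point is fixed
  have hfix : ∀ (k : N) (p : φ.Pts), k • p = p := by
    by_contra! hcon
    obtain ⟨k₀, p₀, hne⟩ := hcon
    set e := p₀.1.rep with he
    obtain ⟨f, w, P⟩ := φ.exists_frame h3 h2 (show e ≠ 0 from p₀.1.rep_nonzero) (show φ.B e e = 0 from p₀.2)
    have hframe : ∀ q : φ.Pts, q ≠ p₀ → ∃ f' w', φ.Frame e f' w' ∧ φ.B w' w' = φ.B w w ∧
        ∀ (hf' : f' ≠ 0), Projectivization.mk F f' hf' = q.1 := by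
      intro q hq
      set x := q.1.rep with hx
      have hxe : φ.B x e ≠ 0 := fun h0 => hq (Subtype.ext (q.1.mk_rep.symm.trans (((Projectivization.mk_eq_mk_iff' F _ _ _ _).2
        ⟨φ.B x f, (φ.isotropic_pair h3 P q.2 h0).symm⟩).trans p₀.1.mk_rep)))
      set f' := (φ.B x e)⁻¹ • x with hf'
      have hf'e : φ.B f' e = 1 := by rw [hf', φ.smul_left, inv_mul_cancel₀ hxe]
      have hef' : φ.B e f' = 1 := by rw [φ.symm f' e, hf'e, map_one]
      refine ⟨f', w - φ.B w f' • e, ⟨P.ee, by rw [hf', φ.smul_left, φ.smul_right, q.2, mul_zero, mul_zero], hef',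
        by rw [φ.sub_left, φ.smul_left, P.we, P.ee, mul_zero, sub_zero],
        by rw [φ.sub_left, φ.smul_left, hef', mul_one, sub_self], ?_⟩, ?_, fun h => ?_⟩
      · simp only [φ.sub_left, φ.sub_right, φ.smul_left, φ.smul_right, P.we, P.ee, φ.comm_zero P.we, mul_zero, sub_zero]
        exact P.ww
      · simp only [φ.sub_left, φ.sub_right, φ.smul_left, φ.smul_right, P.we, P.ee, φ.comm_zero P.we, mul_zero, sub_zero]
      · exact ((Projectivization.mk_eq_mk_iff' F _ _ _ q.1.rep_nonzero).2 ⟨(φ.B x e)⁻¹, rfl⟩).trans q.1.mk_rep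
    have htrans : ∀ q : φ.Pts, ∃ k : N, k • p₀ = q := by
      intro q
      by_cases hq : q = p₀
      · exact ⟨1, by rw [one_smul, hq]⟩
      obtain ⟨f₁, w₁, P₁, hw₁, hm₁⟩ := hframe (k₀ • p₀) hne
      obtain ⟨f₂, w₂, P₂, hw₂, hm₂⟩ := hframe q hq
      obtain ⟨T, hT, hTe, hTf⟩ := Frame.exists_map φ h3 P₁ P₂ (hw₂.trans hw₁.symm)
      refine ⟨⟨T * k₀.1 * T⁻¹, hnorm T hT _ k₀.2⟩, Subtype.ext ?_⟩
      have hf₁ : f₁ ≠ 0 := φ.ne_zero_of (u := f₁) (v := e) (by rw [P₁.fe]; exact one_ne_zero)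
      have hf₂ : f₂ ≠ 0 := φ.ne_zero_of (u := f₂) (v := e) (by rw [P₂.fe]; exact one_ne_zero)
      have hTp : T • p₀.1 = p₀.1 := by
        conv_lhs => rw [← p₀.1.mk_rep, Projectivization.smul_mk]
        conv_rhs => rw [← p₀.1.mk_rep]
        exact (Projectivization.mk_eq_mk_iff' F _ _ _ _).2 ⟨1, by rw [one_smul]; exact hTe.symm⟩
      rw [hsmul, mul_smul, mul_smul, inv_smul_eq_iff.2 hTp.symm, ← hsmul k₀ p₀, ← hm₁ hf₁, ← hm₂ hf₂,
        Projectivization.smul_mk]
      exact (Projectivization.mk_eq_mk_iff' F _ _ _ _).2 ⟨1, by rw [one_smul]; exact hTf.symm⟩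
    let θ := MulAction.toPermHom N φ.Pts
    have hH : ¬ 2 ∣ Nat.card θ.range := fun hdvd => by
      haveI : Fact (Nat.Prime 2) := ⟨Nat.prime_two⟩
      obtain ⟨⟨_, k, rfl⟩, hk⟩ := exists_prime_orderOf_dvd_card' 2 hdvd
      obtain ⟨j, hj, hjs⟩ := hodd k.1 k.2
      have hone : θ k ^ j = 1 := by
        rw [← map_pow]
        refine Equiv.ext fun p => Subtype.ext ?_
        show (k.1 ^ j) • p.1 = p.1
        obtain ⟨c, hc⟩ := hjs
        conv_lhs => rw [← p.1.mk_rep, Projectivization.smul_mk]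
        conv_rhs => rw [← p.1.mk_rep]
        exact (Projectivization.mk_eq_mk_iff' F _ _ _ _).2 ⟨c, (hc _).symm⟩
      rw [← Subgroup.orderOf_coe] at hk
      have := orderOf_dvd_of_pow_eq_one hone
      change orderOf (θ k) = 2 at hk
      rw [hk] at this
      exact (Nat.not_even_iff_odd.2 hj) (even_iff_two_dvd.2 this)
    refine hH (dvd_trans ?_ (Subgroup.index_dvd_card (MulAction.stabilizer θ.range p₀)))
    have horb : MulAction.orbit θ.range p₀ = Set.univ := Set.eq_univ_iff_forall.2 fun q => by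
      obtain ⟨k, hk⟩ := htrans q
      exact ⟨⟨θ k, k, rfl⟩, hk⟩
    rw [MulAction.index_stabilizer, horb, Set.ncard_univ]
    exact even_iff_two_dvd.1 (φ.even_pts h3 h2 P)
  -- hence scalar
  obtain ⟨e, he, hee⟩ := φ.exists_isotropic h3 h2
  obtain ⟨f, w, P⟩ := φ.exists_frame h3 h2 he hee
  have heig : ∀ x, x ≠ 0 → φ.B x x = 0 → ∃ c : F, g x = c • x := by
    intro x hx hxx
    have h := congrArg Subtype.val (hfix ⟨g, hg⟩ ⟨_, (φ.iso_rep hx).2 hxx⟩)
    rw [hsmul, Projectivization.smul_mk] at h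
    obtain ⟨c, hc⟩ := (Projectivization.mk_eq_mk_iff' F _ _ _ hx).1 h
    exact ⟨c, hc.symm⟩
  obtain ⟨α, hα⟩ := heig e he hee
  obtain ⟨β, hβ⟩ := heig f (φ.ne_zero_of (v := e) (by rw [P.fe]; exact one_ne_zero)) P.ff
  have hwe : φ.B (g w) e = 0 := by
    have h := hiso g hg w e
    rw [hα, φ.smul_right, P.we] at h
    refine (mul_eq_zero.1 h).resolve_left fun h0 => he (g.injective ?_)
    rw [hα, (map_eq_zero σ).1 h0, zero_smul, map_zero]
  have hwf : φ.B (g w) f = 0 := by
    have h := hiso g hg w f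
    rw [hβ, φ.smul_right, P.wf] at h
    refine (mul_eq_zero.1 h).resolve_left fun h0 => φ.ne_zero_of (u := f) (v := e) (by rw [P.fe]; exact one_ne_zero)
      (g.injective ?_)
    rw [hβ, (map_eq_zero σ).1 h0, zero_smul, map_zero]
  set γ := φ.B (g w) w / φ.B w w with hγdef
  have hγ : g w = γ • w := by
    conv_lhs => rw [Frame.decomp φ h3 P (g w), hwe, hwf, zero_smul, zero_smul, zero_add, zero_add]
  set t := -(φ.B w w / 2) with ht
  have htt : σ t = t := by rw [ht, map_neg, map_div₀, φ.self_fix, map_ofNat]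
  have ht0 : t ≠ 0 := neg_ne_zero.2 (div_ne_zero P.ww h2)
  set x := e + t • f + w with hx
  have hxw : φ.B x w = φ.B w w := by simp [hx, φ.add_left, φ.smul_left, φ.comm_zero P.we, φ.comm_zero P.wf]
  have hxf : φ.B x f = 1 := by simp [hx, φ.add_left, φ.smul_left, P.ef, P.ff, P.wf]
  have hxe : φ.B x e = t := by simp [hx, φ.add_left, φ.smul_left, P.ee, P.fe, P.we]
  have hxx : φ.B x x = 0 := by
    rw [Frame.form φ h3 P x x, hxw, hxf, hxe, htt, map_one, φ.self_fix, div_self P.ww, one_mul, ht]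
    field_simp
    ring
  obtain ⟨l, hl⟩ := heig x (φ.ne_zero_of (v := f) (by rw [hxf]; exact one_ne_zero)) hxx
  have hgx : g x = α • e + (t * β) • f + γ • w := by
    rw [hx, map_add, map_add, map_smul, hα, hβ, hγ, smul_smul]
  rw [hgx] at hl
  have c1 := congrArg (fun z => φ.B z f) hl
  have c2 := congrArg (fun z => φ.B z e) hl
  have c3 := congrArg (fun z => φ.B z w) hl
  simp only [φ.add_left, φ.smul_left, P.ef, P.ff, P.wf, P.ee, P.fe, P.we, φ.comm_zero P.we, φ.comm_zero P.wf, hxf,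
    hxe, hxw, mul_zero, mul_one, add_zero, zero_add] at c1 c2 c3
  have hβl : β = l := mul_left_cancel₀ ht0 (c2.trans (mul_comm _ _))
  have hγl : γ = l := mul_right_cancel₀ P.ww c3
  refine ⟨l, fun y => ?_⟩
  conv_lhs => rw [Frame.decomp φ h3 P y]
  conv_rhs => rw [Frame.decomp φ h3 P y]
  simp only [map_add, map_smul, hα, hβ, hγ, c1, hβl, hγl, smul_add, smul_smul, mul_comm l]

end Three

/-! ### Restriction to the orthogonal of an anisotropic vector -/

/-- The isometries fixing the line of `u`. -/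
def stab (u : V) : Subgroup (V ≃ₗ[F] V) where
  carrier := {g | φ.IsIso g ∧ ∃ c : F, g u = c • u}
  one_mem' := ⟨fun _ _ => rfl, 1, (one_smul F u).symm⟩
  mul_mem' := by
    rintro g h ⟨hg, c, hc⟩ ⟨hh, d, hd⟩
    exact ⟨IsIso.mul φ hg hh, d * c, by show g (h u) = _; rw [hd, map_smul, hc, smul_smul]⟩
  inv_mem' := by
    rintro g ⟨hg, c, hc⟩
    refine ⟨IsIso.inv φ hg, c⁻¹, g.injective ?_⟩
    rw [LinearEquiv.coe_inv, g.apply_symm_apply, map_smul, hc, smul_smul]
    rcases eq_or_ne u 0 with rfl | hu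
    · simp
    · rw [inv_mul_cancel₀ (fun h0 => hu (g.injective (by rw [hc, h0, zero_smul, map_zero]))), one_smul]

variable {φ} in
theorem stab_perp {u : V} {g : V ≃ₗ[F] V} (hu : φ.B u u ≠ 0) (hg : g ∈ φ.stab u) {x : V} (hx : x ∈ φ.perp u) :
    g x ∈ φ.perp u := by
  obtain ⟨hg, c, hc⟩ := hg
  have h := hg x u
  rw [hc, φ.smul_right, φ.mem_perp.1 hx] at h
  refine φ.mem_perp.2 ((mul_eq_zero.1 h).resolve_left fun h0 => φ.ne_zero_of hu (g.injective ?_))
  rw [hc, (map_eq_zero σ).1 h0, zero_smul, map_zero]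

/-- Restriction to the orthogonal. -/
def resHom {u : V} (hu : φ.B u u ≠ 0) : φ.stab u →* (φ.perp u ≃ₗ[F] φ.perp u) where
  toFun g :=
    { toFun := fun x => ⟨g.1 x.1, stab_perp hu g.2 x.2⟩
      map_add' := fun x y => Subtype.ext (map_add g.1 _ _)
      map_smul' := fun c x => Subtype.ext (map_smul g.1 _ _)
      invFun := fun x => ⟨g⁻¹.1 x.1, stab_perp hu g⁻¹.2 x.2⟩
      left_inv := fun x => Subtype.ext (g.1.symm_apply_apply _)
      right_inv := fun x => Subtype.ext (g.1.apply_symm_apply _) }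
  map_one' := LinearEquiv.ext fun _ => rfl
  map_mul' _ _ := LinearEquiv.ext fun _ => rfl

theorem exists_ext {u : V} (hu : φ.B u u ≠ 0) (h : φ.perp u ≃ₗ[F] φ.perp u) (hh : (φ.res hu).IsIso h) :
    ∃ g : φ.stab u, φ.resHom hu g = h := by
  let Λ : (φ.perp u ≃ₗ[F] φ.perp u) → (V →ₗ[F] V) := fun h =>
    ((φ.perp u).subtype.comp h.toLinearMap).comp ((φ.proj u).codRestrict _ (φ.proj_mem hu)) +
      (φ.lin u).smulRight ((φ.B u u)⁻¹ • u)
  have hΛ : ∀ (h : φ.perp u ≃ₗ[F] φ.perp u) (x : V),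
      Λ h x = (h ⟨φ.proj u x, φ.proj_mem hu x⟩ : V) + (φ.B x u / φ.B u u) • u := fun h x => by
    simp [Λ, div_eq_mul_inv, smul_smul]
    rfl
  have hperp : ∀ y : φ.perp u, φ.B y.1 u = 0 := fun y => y.2
  have hiso : ∀ x y, φ.B (Λ h x) (Λ h y) = φ.B x y := by
    intro x y
    have hd : ∀ z, z = φ.proj u z + (φ.B z u / φ.B u u) • u := fun z => by rw [proj_apply, sub_add_cancel]
    conv_rhs => rw [hd x, hd y]
    simp only [hΛ, φ.add_left, φ.add_right, φ.smul_left, φ.smul_right, hperp, φ.comm_zero (hperp _),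
      φ.mem_perp.1 (φ.proj_mem hu _), φ.comm_zero (φ.mem_perp.1 (φ.proj_mem hu _)), mul_zero, add_zero, zero_add]
    congr 1
    exact hh ⟨_, φ.proj_mem hu x⟩ ⟨_, φ.proj_mem hu y⟩
  have hinv : ∀ h' h'' : φ.perp u ≃ₗ[F] φ.perp u, (∀ z, h' (h'' z) = z) → ∀ x, Λ h' (Λ h'' x) = x := by
    intro h' h'' hz x
    set z := Λ h'' x with hzdef
    have hzu : φ.B z u = φ.B x u := by
      rw [hzdef, hΛ, φ.add_left, φ.smul_left, hperp, zero_add, div_mul_cancel₀ _ hu]
    have hpz : (⟨φ.proj u z, φ.proj_mem hu z⟩ : φ.perp u) = h'' ⟨φ.proj u x, φ.proj_mem hu x⟩ := Subtype.ext (by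
      show φ.proj u z = _
      rw [proj_apply, hzu, hzdef, hΛ, add_sub_cancel_right])
    rw [hΛ, hpz, hz, hzu]
    show φ.proj u x + _ = x
    rw [proj_apply, sub_add_cancel]
  let g : V ≃ₗ[F] V :=
    { Λ h with
      invFun := Λ h.symm
      left_inv := hinv h.symm h h.symm_apply_apply
      right_inv := hinv h h.symm h.apply_symm_apply }
  have hgu : g u = u := by
    show Λ h u = u
    rw [hΛ, div_self hu, one_smul]
    have : (⟨φ.proj u u, φ.proj_mem hu u⟩ : φ.perp u) = 0 := Subtype.ext (by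
      show φ.proj u u = 0
      rw [proj_apply, div_self hu, one_smul, sub_self])
    rw [this, map_zero, Submodule.coe_zero, zero_add]
  refine ⟨⟨g, hiso, 1, by rw [hgu, one_smul]⟩, LinearEquiv.ext fun y => Subtype.ext ?_⟩
  show Λ h y.1 = _
  rw [hΛ, hperp, zero_div, zero_smul, add_zero,
    show (⟨φ.proj u y.1, φ.proj_mem hu y.1⟩ : φ.perp u) = y from
      Subtype.ext (by show φ.proj u y.1 = y.1; rw [proj_apply, hperp, zero_div, zero_smul, sub_zero])]

theorem commute_refl_eigen {u : V} (hu : φ.B u u ≠ 0) (h2 : (2 : F) ≠ 0) {g : V ≃ₗ[F] V}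
    (h : φ.refl hu * g = g * φ.refl hu) : ∃ c : F, g u = c • u := by
  refine ⟨_, φ.eq_smul_of_refl hu h2 (x := g u) ?_⟩
  have := LinearEquiv.congr_fun h u
  change φ.refl hu (g u) = g (φ.refl hu u) at this
  rw [this, φ.refl_self, map_neg]

theorem refl_twist [FiniteDimensional F V] (hd : 3 ≤ finrank F V) (h2 : (2 : F) ≠ 0) {u : V} (hu : φ.B u u ≠ 0)
    {g z : V ≃ₗ[F] V} (hz : z ∈ scal F V) (h : φ.refl hu * g * φ.refl hu = g * z) :
    φ.refl hu * g = g * φ.refl hu := by
  obtain ⟨c, hc⟩ := hz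
  have h1 : ∀ x, φ.refl hu (g x) = c • g (φ.refl hu x) := fun x => by
    have := LinearEquiv.congr_fun h (φ.refl hu x)
    change φ.refl hu (g (φ.refl hu (φ.refl hu x))) = g (z (φ.refl hu x)) at this
    rwa [φ.refl_refl_apply, hc, map_smul] at this
  have hu0 : u ≠ 0 := φ.ne_zero_of hu
  have hcc : c * c = 1 := by
    have h3 := congrArg (φ.refl hu) (h1 u)
    rw [φ.refl_refl_apply, map_smul, h1, smul_smul, φ.refl_refl_apply] at h3
    refine smul_left_injective F (show g u ≠ 0 from fun h0 => hu0 (g.injective (h0.trans (map_zero g).symm))) ?_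
    simpa using h3.symm
  rcases mul_self_eq_one_iff.1 hcc with rfl | rfl
  · refine LinearEquiv.ext fun x => ?_
    show φ.refl hu (g x) = g (φ.refl hu x)
    rw [h1, one_smul]
  · exfalso
    have key : ∀ x ∈ φ.perp u, ∃ a : F, g x = a • u := fun x hx =>
      ⟨_, φ.eq_smul_of_refl hu h2 (by rw [h1, φ.refl_perp hu hx, neg_one_smul])⟩
    obtain ⟨v, hv, hvu⟩ := φ.exists_aniso_perp h2 (by omega) hu
    obtain ⟨w, hw, hwu, hwv⟩ := φ.exists_aniso_perp2 h2 hd hu hv hvu
    obtain ⟨a, ha⟩ := key v hvu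
    obtain ⟨b, hb⟩ := key w hwu
    have h0 : g (b • v - a • w) = g 0 := by rw [map_sub, map_smul, map_smul, ha, hb, smul_comm, sub_self, map_zero]
    have h4 := congrArg (fun y => φ.B y w) (g.injective h0)
    simp only [φ.sub_left, φ.smul_left, φ.comm_zero hwv, mul_zero, zero_sub, φ.zero_left, neg_eq_zero, mul_eq_zero,
      or_iff_left hw] at h4
    exact φ.ne_zero_of hv (g.injective (by rw [ha, h4, zero_smul, map_zero]))

variable [Finite F]

/-- **Odd normal subgroups of an isometry group are scalar.** -/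
theorem mem_scal_aux (h2 : (2 : F) ≠ 0) (d : ℕ) : ∀ (V : Type v) [AddCommGroup V] [Module F V] [FiniteDimensional F V]
    (φ : RForm σ V), finrank F V = d + 3 → ∀ N : Subgroup (V ≃ₗ[F] V), (∀ g ∈ N, φ.IsIso g) →
    (∀ h, φ.IsIso h → ∀ g ∈ N, h * g * h⁻¹ ∈ N) → (∀ g ∈ N, ∃ k, Odd k ∧ g ^ k ∈ scal F V) →
    ∀ g ∈ N, g ∈ scal F V := by
  induction d with
  | zero => exact fun V _ _ _ φ hd N hiso hnorm hodd g hg => φ.three_mem_scal hd h2 N hiso hnorm hodd hg
  | succ d ih =>
    intro V _ _ _ φ hd N hiso hnorm hodd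
    have hres : ∀ {u : V} (hu : φ.B u u ≠ 0), ∀ g ∈ N, g ∈ φ.stab u → ∃ μ : F, ∀ x ∈ φ.perp u, g x = μ • x := by
      intro u hu g hg hgs
      have hd' : finrank F (φ.perp u) = d + 3 := by have := φ.finrank_perp hu; omega
      obtain ⟨μ, hμ⟩ := ih (φ.perp u) (φ.res hu) hd' ((N.subgroupOf (φ.stab u)).map (φ.resHom hu))
        (by rintro _ ⟨k, -, rfl⟩ x y; exact k.2.1 x.1 y.1)
        (by
          rintro h hh _ ⟨k, hk, rfl⟩
          obtain ⟨e, rfl⟩ := φ.exists_ext hu h hh
          exact ⟨e * k * e⁻¹, hnorm e.1 e.2.1 _ hk, by rw [map_mul, map_mul, map_inv]⟩)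
        (by
          rintro _ ⟨k, hk, rfl⟩
          obtain ⟨j, hj, c, hc⟩ := hodd k.1 hk
          refine ⟨j, hj, c, fun x => Subtype.ext ?_⟩
          rw [← map_pow]
          show (k ^ j).1 x.1 = c • x.1
          rw [SubmonoidClass.coe_pow, hc])
        _ ⟨⟨g, hgs⟩, hg, rfl⟩
      exact ⟨μ, fun x hx => congrArg Subtype.val (hμ ⟨x, hx⟩)⟩
    -- elements commuting with a reflection
    have hfix : ∀ {u : V} (hu : φ.B u u ≠ 0), ∀ g ∈ N, φ.refl hu * g = g * φ.refl hu → g ∈ scal F V := by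
      intro u hu g hg hcm
      obtain ⟨l, hl⟩ := φ.commute_refl_eigen hu h2 hcm
      obtain ⟨μ, hμ⟩ := hres hu g hg ⟨hiso g hg, l, hl⟩
      suffices hlm : l = μ by
        refine ⟨μ, fun x => ?_⟩
        have hx : x = φ.proj u x + (φ.B x u / φ.B u u) • u := by rw [proj_apply, sub_add_cancel]
        rw [hx, map_add, map_smul, hμ _ (φ.proj_mem hu x), hl, hlm, smul_add, smul_comm]
      obtain ⟨v, hv, hvu⟩ := φ.exists_aniso_perp h2 (by omega) hu
      obtain ⟨w, hw, hwu, hwv⟩ := φ.exists_aniso_perp2 h2 (by omega) hu hv hvu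
      obtain ⟨x, y, hxy⟩ := exists_sum_norm (σ := σ) h2 φ.invol hv hw hu (φ.self_fix v) (φ.self_fix u)
      set u' := x • v + y • w with hu'
      have hu'u : φ.B u' u = 0 := by simp [hu', φ.add_left, φ.smul_left, hvu, hwu]
      have hu'u' : φ.B u' u' = φ.B u u := by
        simp only [hu', φ.add_left, φ.add_right, φ.smul_left, φ.smul_right, hwv, φ.comm_zero hwv, mul_zero, add_zero,
          zero_add]
        linear_combination hxy
      have hdiff : φ.B (u - u') (u - u') ≠ 0 := by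
        simp only [φ.sub_left, φ.sub_right, hu'u, φ.comm_zero hu'u, hu'u', sub_zero, zero_sub, sub_neg_eq_add,
          ← two_mul]
        exact mul_ne_zero h2 hu
      set r := φ.refl hdiff with hr
      have hru : r u = u' := by
        rw [hr, refl_apply]
        simp only [φ.sub_left, φ.sub_right, hu'u, φ.comm_zero hu'u, hu'u', sub_zero, zero_sub, sub_neg_eq_add]
        rw [show 2 * φ.B u u / (φ.B u u + φ.B u u) = 1 by rw [← two_mul, div_self (mul_ne_zero h2 hu)], one_smul,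
          sub_sub_cancel]
      have hru' : r u' = u := by rw [← hru, φ.refl_refl_apply]
      obtain ⟨z, hz, hzu, hzu'⟩ := φ.exists_aniso_perp2 h2 (by omega) hu (hu'u'.symm ▸ hu) hu'u
      obtain ⟨w₀, hw₀, hw₀0⟩ : ∃ w₀ : V, (φ.B w₀ u = 0 ∧ φ.B w₀ u' = 0 ∧ φ.B w₀ z = 0) ∧ w₀ ≠ 0 := by
        let L : V →ₗ[F] F × F × F := (φ.lin u).prod ((φ.lin u').prod (φ.lin z))
        have hne : LinearMap.ker L ≠ ⊥ := fun h0 => by
          have h1 := LinearMap.finrank_range_add_finrank_ker L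
          have h3 := Submodule.finrank_le (LinearMap.range L)
          rw [h0, finrank_bot] at h1
          simp only [finrank_prod, finrank_self] at h3
          omega
        obtain ⟨w₀, hw₀, hw₀0⟩ := (Submodule.ne_bot_iff _).1 hne
        have h := LinearMap.mem_ker.1 hw₀
        exact ⟨w₀, ⟨congrArg Prod.fst h, congrArg (fun p => p.2.1) h, congrArg (fun p => p.2.2) h⟩, hw₀0⟩
      set g' := r * g * r⁻¹ with hg'
      have hg'N : g' ∈ N := hnorm r (φ.refl_iso hdiff) g hg
      have hrinv : r⁻¹ = r := inv_eq_of_mul_eq_one_left (φ.refl_refl hdiff)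
      have hr0 : ∀ {x : V}, φ.B x u = 0 → φ.B x u' = 0 → r x = x := fun {x} h h' =>
        φ.refl_perp hdiff (by rw [φ.sub_right, h, h', sub_zero])
      have hg'perp : ∀ {x : V}, φ.B x u = 0 → φ.B x u' = 0 → g' x = μ • x := fun {x} h h' => by
        show r (g (r⁻¹ x)) = _
        rw [hrinv, hr0 h h', hμ x h, map_smul, hr0 h h']
      have hg'u : g' u = μ • u := by
        show r (g (r⁻¹ u)) = _
        rw [hrinv, hru, hμ u' hu'u, map_smul, hru']
      have hl0 : l ≠ 0 := fun h0 => φ.ne_zero_of hu (g.injective (by rw [hl, h0, zero_smul, map_zero]))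
      have hμ0 : μ ≠ 0 := fun h0 => φ.ne_zero_of hv (g.injective (by rw [hμ v hvu, h0, zero_smul, map_zero]))
      have hginv : ∀ x ∈ φ.perp u, g⁻¹ x = μ⁻¹ • x := fun x hx => g.injective (by
        rw [LinearEquiv.coe_inv, g.apply_symm_apply, map_smul, hμ x hx, smul_smul, inv_mul_cancel₀ hμ0, one_smul])
      have hinvu : g⁻¹ u = l⁻¹ • u := g.injective (by
        rw [LinearEquiv.coe_inv, g.apply_symm_apply, map_smul, hl, smul_smul, inv_mul_cancel₀ hl0, one_smul])
      have hzfix : (g' * g⁻¹) z = z := by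
        show g' (g⁻¹ z) = z
        rw [hginv z hzu, map_smul, hg'perp hzu hzu', smul_smul, inv_mul_cancel₀ hμ0, one_smul]
      obtain ⟨ν, hν⟩ := hres hz (g' * g⁻¹) (mul_mem hg'N (inv_mem hg))
        ⟨IsIso.mul φ (hiso _ hg'N) (IsIso.inv φ (hiso g hg)), 1, by rw [hzfix, one_smul]⟩
      have e1 : (g' * g⁻¹) w₀ = w₀ := by
        show g' (g⁻¹ w₀) = w₀
        rw [hginv w₀ hw₀.1, map_smul, hg'perp hw₀.1 hw₀.2.1, smul_smul, inv_mul_cancel₀ hμ0, one_smul]
      have hν1 : ν = 1 := smul_left_injective F hw₀0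
        (((hν w₀ hw₀.2.2).symm.trans e1).trans (one_smul F w₀).symm)
      have e2 : (g' * g⁻¹) u = (l⁻¹ * μ) • u := by
        show g' (g⁻¹ u) = _
        rw [hinvu, map_smul, hg'u, smul_smul]
      have e3 := e2.symm.trans (hν u (φ.comm_zero hzu))
      rw [hν1] at e3
      have := smul_left_injective F (φ.ne_zero_of hu) e3
      exact (inv_mul_eq_one₀ hl0).1 this
    -- reflections invert modulo scalars
    have hinv : ∀ {u : V} (hu : φ.B u u ≠ 0), ∀ g ∈ N,
        ∃ z ∈ scal F V, φ.refl hu * g * φ.refl hu = z * g⁻¹ := by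
      intro u hu g hg
      set r := φ.refl hu with hr
      have hrr : r * r = 1 := φ.refl_refl hu
      have hrinv : r⁻¹ = r := inv_eq_of_mul_eq_one_left hrr
      have hrg : r * g * r ∈ N := by
        have := hnorm r (φ.refl_iso hu) g hg
        rwa [hrinv] at this
      set e := g⁻¹ * (r * g * r) with he
      obtain ⟨k, ⟨m, rfl⟩, hk⟩ := hodd e (mul_mem (inv_mem hg) hrg)
      have hconj : ∀ a b : V ≃ₗ[F] V, r * (a * b) * r = r * a * r * (r * b * r) := fun a b => by
        calc r * (a * b) * r = r * a * (r * r) * (b * r) := by rw [hrr, mul_one]; group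
          _ = _ := by group
      have hge : r * g * r = g * e := by rw [he, mul_inv_cancel_left]
      have hre : r * e * r = e⁻¹ := by
        rw [he, hconj, _root_.mul_inv_rev, inv_inv,
          show r * g⁻¹ * r = (r * g * r)⁻¹ by simp only [_root_.mul_inv_rev, hrinv, mul_assoc],
          show r * (r * g * r) * r = g by rw [← mul_assoc, ← mul_assoc, hrr, one_mul, mul_assoc, hrr, mul_one]]
      have hrpow : ∀ j : ℕ, r * e ^ j * r = (e ^ j)⁻¹ := fun j => by
        induction j with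
        | zero => simp [hrr]
        | succ j ihj => rw [pow_succ, hconj, ihj, hre, ← _root_.mul_inv_rev, ← pow_succ', pow_succ]
      set y := e ^ (m + 1) with hy
      set z := e ^ (2 * m + 1) with hz
      have hyy : e * y⁻¹ = y * z⁻¹ := by
        rw [hy, hz]; group
      have h1 : r * (g * y) * r = g * y * z⁻¹ := by
        rw [hconj, hge, hrpow, mul_assoc g e, hyy, ← mul_assoc]
      have hs := hfix hu (g * y) (mul_mem hg (pow_mem (mul_mem (inv_mem hg) hrg) _))
        (φ.refl_twist (by omega) h2 hu (inv_mem hk) h1)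
      set s := g * y with hsdef
      refine ⟨s * s * z⁻¹, mul_mem (mul_mem hs hs) (inv_mem hk), ?_⟩
      have hyy' : e = y * y * z⁻¹ := by
        rw [hy, hz]; group
      have hy' : y = g⁻¹ * s := by rw [hsdef, inv_mul_cancel_left]
      have c1 : s * g⁻¹ = g⁻¹ * s := (scal_comm hs g⁻¹).eq
      have c2 : z⁻¹ * g⁻¹ = g⁻¹ * z⁻¹ := (scal_comm (inv_mem hk) g⁻¹).eq
      rw [hge, hyy', hy']
      calc g * (g⁻¹ * s * (g⁻¹ * s) * z⁻¹) = s * (g⁻¹ * s) * z⁻¹ := by group
        _ = s * s * (g⁻¹ * z⁻¹) := by rw [← c1]; group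
        _ = _ := by rw [← c2]; group
    intro g hg
    have hgood : ∀ u w, φ.GoodPair u w → ∀ x ∈ ({u, w} : Set V),
        (g ^ 2) x ∈ Submodule.span F {u, w} := by
      rintro u w ⟨hu, hw, hwu⟩
      obtain ⟨z₁, hz₁, e₁⟩ := hinv hw g hg
      obtain ⟨z₂, hz₂, e₂⟩ := hinv hu g⁻¹ (inv_mem hg)
      rw [inv_inv] at e₂
      set R := φ.refl hu * φ.refl hw with hR
      have hcomm : φ.refl hu * φ.refl hw = φ.refl hw * φ.refl hu := LinearEquiv.ext fun x => by
        show φ.refl hu (φ.refl hw x) = φ.refl hw (φ.refl hu x)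
        simp only [refl_apply, φ.sub_left, φ.smul_left, hwu, φ.comm_zero hwu, mul_zero, sub_zero]
        abel
      have hRinv : R⁻¹ = φ.refl hw * φ.refl hu := by
        rw [hR, _root_.mul_inv_rev, inv_eq_of_mul_eq_one_left (φ.refl_refl hu),
          inv_eq_of_mul_eq_one_left (φ.refl_refl hw)]
      set D := z₁ * z₂ with hD
      have hDs : D ∈ scal F V := mul_mem hz₁ hz₂
      have h1 : R * g * R⁻¹ = D * g := by
        rw [hRinv, hR]
        calc φ.refl hu * φ.refl hw * g * (φ.refl hw * φ.refl hu)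
            = φ.refl hu * (φ.refl hw * g * φ.refl hw) * φ.refl hu := by group
          _ = φ.refl hu * z₁ * g⁻¹ * φ.refl hu := by rw [e₁]; group
          _ = z₁ * (φ.refl hu * g⁻¹ * φ.refl hu) := by rw [← (scal_comm hz₁ (φ.refl hu)).eq]; group
          _ = _ := by rw [e₂, hD]; group
      have hRR : R * R = 1 := by
        conv_lhs => arg 2; rw [hR, hcomm, ← hRinv]
        exact mul_inv_cancel R
      have hDD : D * D = 1 := by
        have h3 : R * g = D * g * R := mul_inv_eq_iff_eq_mul.1 h1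
        refine (mul_eq_right (b := g)).1 ?_
        calc D * D * g = D * D * g * (R * R) := by rw [hRR, mul_one]
          _ = D * (D * g * R) * R := by simp only [mul_assoc]
          _ = D * R * g * R := by rw [← h3]; simp only [mul_assoc]
          _ = R * (D * g * R) := by rw [(scal_comm hDs R).eq]; simp only [mul_assoc]
          _ = R * (R * g) := by rw [h3]
          _ = g := by rw [← mul_assoc, hRR, one_mul]
      have h2' : R * g ^ 2 = g ^ 2 * R := by
        have h4 : R * g ^ 2 * R⁻¹ = g ^ 2 := by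
          rw [← conj_pow, h1, (scal_comm hDs g).mul_pow, sq D, hDD, one_mul]
        exact mul_inv_eq_iff_eq_mul.1 h4
      intro x hx
      have hRx : R x = -x := by
        rcases hx with rfl | rfl
        · show φ.refl hu (φ.refl hw x) = -x
          rw [φ.refl_perp hw (φ.comm_zero hwu), φ.refl_self]
        · show φ.refl hu (φ.refl hw x) = -x
          rw [φ.refl_self, map_neg, φ.refl_perp hu hwu]
      set y := (g ^ 2) x with hy
      have hRy : R y = -y := by
        have := LinearEquiv.congr_fun h2' x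
        change R y = (g ^ 2) (R x) at this
        rw [this, hRx, map_neg]
      change φ.refl hu (φ.refl hw y) = -y at hRy
      rw [refl_apply, refl_apply] at hRy
      simp only [φ.sub_left, φ.smul_left, hwu, mul_zero, sub_zero] at hRy
      refine Submodule.mem_span_pair.2 ⟨φ.B y u / φ.B u u, φ.B y w / φ.B w w, ?_⟩
      refine smul_right_injective V h2 ?_
      linear_combination (norm := module) -hRy
    have hline : ∀ v : V, ∃ a : F, (g ^ 2) v = a • v := by
      intro v
      rcases eq_or_ne v 0 with rfl | hv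
      · exact ⟨0, by simp⟩
      obtain ⟨a, b, hli, ha, hb⟩ := φ.exists_planes h2 (by omega) hv
      have hmem : ∀ c, φ.Plane v c → (g ^ 2) v ∈ Submodule.span F ({v, c} : Set V) := by
        rintro c ⟨u, w, hp, hs⟩
        have hgp := hgood u w hp
        rw [hs]
        have hv' : v ∈ Submodule.span F ({u, w} : Set V) := hs ▸ Submodule.subset_span (Set.mem_insert _ _)
        have hle : Submodule.span F ({u, w} : Set V) ≤ (Submodule.span F ({u, w} : Set V)).comap (g ^ 2).toLinearMap :=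
          Submodule.span_le.2 hgp
        exact hle hv'
      obtain ⟨p, q, hpq⟩ := Submodule.mem_span_pair.1 (hmem a ha)
      obtain ⟨p', q', hpq'⟩ := Submodule.mem_span_pair.1 (hmem b hb)
      have h0 : (p - p') • v + q • a + (-q') • b = 0 := by
        linear_combination (norm := module) hpq - hpq'
      have := Fintype.linearIndependent_iff.1 hli ![p - p', q, -q'] (by simpa [Fin.sum_univ_three] using h0) 1
      simp at this
      exact ⟨p, by rw [← hpq, this, zero_smul, add_zero]⟩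
    obtain ⟨a, ha⟩ := LinearMap.exists_eq_smul_id_of_forall_notLinearIndependent
      (f := ((g ^ 2 : V ≃ₗ[F] V) : V →ₗ[F] V)) (fun x hli => by
        obtain ⟨a, ha⟩ := hline x
        rw [LinearEquiv.coe_coe, ha] at hli
        have := LinearIndependent.pair_iff.1 hli a (-1) (by simp)
        simp at this)
    obtain ⟨k, hk, hks⟩ := hodd g hg
    exact mem_scal_of_sq hk hks ⟨a, fun x => by simpa using LinearMap.congr_fun ha x⟩

theorem mem_scal_of_normal [FiniteDimensional F V] (h2 : (2 : F) ≠ 0) (hd : 3 ≤ finrank F V) (N : Subgroup (V ≃ₗ[F] V))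
    (hiso : ∀ g ∈ N, φ.IsIso g) (hnorm : ∀ h, φ.IsIso h → ∀ g ∈ N, h * g * h⁻¹ ∈ N)
    (hodd : ∀ g ∈ N, ∃ k, Odd k ∧ g ^ k ∈ scal F V) {g : V ≃ₗ[F] V} (hg : g ∈ N) : g ∈ scal F V :=
  mem_scal_aux h2 (finrank F V - 3) V φ (by omega) N hiso hnorm hodd g hg

end Cfsg.Lib.Linear.Balance.RForm
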