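import Cfsg.Agent.Lib.Linear.AutPSL.FieldCentralizer
import Cfsg.Agent.Lib.Linear.Balance.Generic

/-!
# Balance for field automorphisms of `PSL_n(q)`

A normal subgroup of `PSL_n(q₀)` is trivial or contains every `r`-th power, so if `p` divides the number of fixed points of a
field automorphism `x` of order `p`, the core of its centraliser meets `PSL_n(q₀)` trivially and so centralises it; the
centraliser of `PSL_n(q₀)` in the automorphism group is generated by `x`.
-/

set_option autoImplicit false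

namespace Cfsg.Lib.Linear.Balance

open Matrix
open Cfsg.Lib.Linear.AutPSL
open Cfsg.Lib.Linear.Descent (sc sm)
open scoped MatrixGroups LinearAlgebra.Projectivization

/-- A permutation matrix of prime order `p` in `SL`. -/
theorem exists_perm_matrix {n p : ℕ} [hp : Fact p.Prime] (hodd : Odd p) (hle : p ≤ n) (F : Type*) [Field F] :
    ∃ s : SpecialLinearGroup (Fin n) F, s ^ p = 1 ∧ ∃ i j, i ≠ j ∧ s.1 i j ≠ 0 := by
  obtain ⟨π, hπ⟩ := exists_prime_orderOf_dvd_card' (G := Equiv.Perm (Fin n)) p (by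
    rw [Nat.card_perm, Nat.card_fin]; exact Nat.dvd_factorial hp.out.pos hle)
  have hπp : π ^ p = 1 := by rw [← hπ, pow_orderOf_eq_one]
  have hpow : ∀ k : ℕ, (π.permMatrix F) ^ k = (π ^ k).permMatrix F := by
    intro k
    induction k with
    | zero => simp
    | succ k ih => rw [pow_succ, ih, pow_succ', Matrix.permMatrix_mul]
  have hsign : Equiv.Perm.sign π = 1 := by
    have h := congrArg Equiv.Perm.sign hπp
    rw [map_pow, map_one] at h
    rcases Int.units_eq_one_or (Equiv.Perm.sign π) with h1 | h1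
    · exact h1
    · rw [h1, hodd.neg_one_pow] at h
      exact absurd h (by decide)
  obtain ⟨i, hi⟩ : ∃ i, π i ≠ i := by
    by_contra! h
    have : π = 1 := Equiv.ext h
    rw [this, orderOf_one] at hπ
    exact hp.out.one_lt.ne hπ
  let s : SpecialLinearGroup (Fin n) F := ⟨π.permMatrix F, by rw [Matrix.det_permutation, hsign]; simp⟩
  refine ⟨s, Subtype.ext ?_, i, π i, hi.symm, ?_⟩
  · show (s ^ p).1 = _
    rw [Matrix.SpecialLinearGroup.coe_pow, show s.1 = π.permMatrix F from rfl, hpow, hπp, Matrix.permMatrix_one]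
    rfl
  · simp [s, Equiv.Perm.permMatrix]

variable {n : ℕ} {F : Type*} [Field F]

local notation "SLn" => Matrix.SpecialLinearGroup (Fin n) F
local notation "PSLn" => Matrix.ProjectiveSpecialLinearGroup (Fin n) F

theorem of_mem_center {s : SLn} (h : s ∈ Subgroup.center SLn) (i j : Fin n) :
    (i ≠ j → s.1 i j = 0) ∧ s.1 i i = s.1 j j := by
  obtain ⟨c, -, hc⟩ := Matrix.SpecialLinearGroup.mem_center_iff.1 h
  refine ⟨fun hij => ?_, ?_⟩ <;> rw [← hc]
  · simp [hij]
  · simp

theorem conj_injective (hn : 2 ≤ n) : Function.Injective (MulAut.conj : PSLn →* MulAut PSLn) := by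
  haveI : Nontrivial (Fin n) := Fin.nontrivial_iff_two_le.2 hn
  refine (injective_iff_map_eq_one _).2 fun k hk => ?_
  obtain ⟨s, rfl⟩ := QuotientGroup.mk_surjective k
  rw [conj_mk] at hk
  obtain ⟨c, hc⟩ := innd_eq_one hk
  refine (QuotientGroup.eq_one_iff _).2 (Subgroup.mem_center_iff.2 fun y => Subtype.ext ?_)
  show y.1 * s.1 = s.1 * y.1
  rw [show s.1 = Matrix.scalar (Fin n) c from hc.symm, (Matrix.scalar_commute c (Commute.all c) y.1).eq]

/-- `PSL_n` of a subfield inside `PSL_n`. -/
def psl0 (σ : F ≃+* F) : Matrix.ProjectiveSpecialLinearGroup (Fin n) (fixedF σ) →* PSLn :=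
  QuotientGroup.map _ _ (SpecialLinearGroup.map (fixedF σ).subtype) fun s hs => by
    obtain ⟨c, hc1, hc⟩ := Matrix.SpecialLinearGroup.mem_center_iff.1 hs
    refine Matrix.SpecialLinearGroup.mem_center_iff.2 ⟨(c : F), by simpa using congrArg Subtype.val hc1, ?_⟩
    ext i j
    show _ = ((s.1 i j : fixedF σ) : F)
    rw [← hc]
    simp [Matrix.diagonal_apply, apply_ite Subtype.val]

theorem psl0_mk (σ : F ≃+* F) (s : SpecialLinearGroup (Fin n) (fixedF σ)) :
    psl0 σ (QuotientGroup.mk s) = QuotientGroup.mk (SpecialLinearGroup.map (fixedF σ).subtype s) := rfl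

theorem fld_psl0 (σ : F ≃+* F) (s) : fld σ (psl0 (n := n) σ s) = psl0 σ s := by
  obtain ⟨s, rfl⟩ := QuotientGroup.mk_surjective s
  rw [psl0_mk, fld_mk]
  exact congrArg _ (Subtype.ext (Matrix.ext fun i j => (s.1 i j).2))

theorem psl0_mk_ne_one {σ : F ≃+* F} {s : SpecialLinearGroup (Fin n) (fixedF σ)} {i j : Fin n} (hij : i ≠ j)
    (h : s.1 i j ≠ 0 ∨ s.1 i i ≠ s.1 j j) : psl0 σ (QuotientGroup.mk s) ≠ 1 := fun h1 => by
  rw [psl0_mk, QuotientGroup.eq_one_iff] at h1
  obtain ⟨e1, e2⟩ := of_mem_center h1 i j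
  rcases h with h | h
  · exact h (Subtype.ext (e1 hij))
  · exact h (Subtype.ext e2)

theorem exists_psl0_eq {σ : F ≃+* F} {t : SLn} (h : frobHom σ t = t) :
    ∃ s : SpecialLinearGroup (Fin n) (fixedF σ), SpecialLinearGroup.map (fixedF σ).subtype s = t := by
  have hfix : ∀ a b, t.1 a b ∈ fixedF σ := fun a b => congrFun (congrFun (congrArg Subtype.val h) a) b
  refine ⟨⟨Matrix.of fun a b => ⟨t.1 a b, hfix a b⟩, ?_⟩, Subtype.ext (Matrix.ext fun a b => rfl)⟩
  refine Subtype.ext ?_
  show (fixedF σ).subtype _ = (1 : F)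
  rw [RingHom.map_det]
  exact t.2

/-- A normal subgroup of `PSL_n(q)` is trivial or contains all `r`-th powers. -/
theorem normal_bot_or_pow (hn : 2 ≤ n) (r : ℕ) [Fact r.Prime] [CharP F r] (N : Subgroup PSLn) [N.Normal] :
    N = ⊥ ∨ ∀ s : PSLn, s ^ r ∈ N := by
  haveI : Nontrivial (Fin n) := Fin.nontrivial_iff_two_le.2 hn
  by_cases h : MulAction.fixedPoints N (ℙ F (Fin n → F)) = Set.univ
  · left
    refine N.eq_bot_iff_forall.2 fun g hg => eq_of_smul_eq_smul (α := ℙ F (Fin n → F)) fun x => ?_
    rw [one_smul]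
    exact Set.eq_univ_iff_forall.1 h x ⟨g, hg⟩
  · right
    haveI := Subgroup.Normal.quotient_commutative_iff_commutator_le.2 (pslIwasawa.commutator_le N h)
    intro s
    obtain ⟨s, rfl⟩ := QuotientGroup.mk_surjective s
    have hs : s ∈ Subgroup.closure {t : SLn |
        ∃ (i j : Fin n) (h : i ≠ j) (c : F), t = SpecialLinearGroup.transvection h c} := by
      rw [closure_transvection_eq_top]; trivial
    rw [← QuotientGroup.eq_one_iff, QuotientGroup.mk_pow]
    induction hs using Subgroup.closure_induction with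
    | mem t ht =>
      obtain ⟨i, j, hij, c, rfl⟩ := ht
      have : ∀ k : ℕ, SpecialLinearGroup.transvection hij c ^ k = SpecialLinearGroup.transvection hij (k * c) := by
        intro k
        induction k with
        | zero => simp
        | succ k ih => rw [pow_succ, ih, ← Matrix.SpecialLinearGroup.transvection_add]; push_cast; ring_nf
      rw [← QuotientGroup.mk_pow, ← QuotientGroup.mk_pow, this, CharP.cast_eq_zero, zero_mul,
        Matrix.SpecialLinearGroup.transvection_coeff_zero]
      rfl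
    | one => simp
    | mul u w _ _ hu hw =>
      rw [QuotientGroup.mk_mul, QuotientGroup.mk_mul, (show Commute _ _ from mul_comm' _ _).mul_pow, hu, hw, one_mul]
    | inv u _ hu => rw [QuotientGroup.mk_inv, QuotientGroup.mk_inv, inv_pow, hu, inv_one]

/-- An element of order `p` in the image of `PSL_n(q₀)`. -/
theorem exists_order_p (hn : 2 ≤ n) (r : ℕ) [Fact r.Prime] [CharP F r] {p : ℕ} [Fact p.Prime] (hpr : p ≠ r)
    (σ : F ≃+* F) (hdvd : p ∣ Nat.card ↥(MonoidHom.eqLocus (fld σ : MulAut PSLn).toMonoidHom (MonoidHom.id PSLn)))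
    [Finite PSLn] :
    ∃ s, psl0 (n := n) σ s ≠ 1 ∧ psl0 σ s ^ p = 1 := by
  have hp : p.Prime := Fact.out
  let i₀ : Fin n := ⟨0, by omega⟩
  let i₁ : Fin n := ⟨1, by omega⟩
  have h01 : i₀ ≠ i₁ := by simp [i₀, i₁]
  rcases hp.eq_two_or_odd' with rfl | hodd
  · rcases Nat.lt_or_ge n 3 with h3 | h3
    · obtain rfl : n = 2 := by omega
      let J : SpecialLinearGroup (Fin 2) (fixedF σ) := ⟨!![0, 1; -1, 0], by simp [Matrix.det_fin_two]⟩
      refine ⟨QuotientGroup.mk J, psl0_mk_ne_one (i := 0) (j := 1) (by decide) (Or.inl (by simp [J])), ?_⟩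
      rw [← map_pow, ← QuotientGroup.mk_pow, (QuotientGroup.eq_one_iff _).2, map_one]
      refine Matrix.SpecialLinearGroup.mem_center_iff.2 ⟨-1, by norm_num, ?_⟩
      rw [Matrix.SpecialLinearGroup.coe_pow, pow_two]
      ext i j
      fin_cases i <;> fin_cases j <;> simp [J, Matrix.mul_apply, Fin.sum_univ_two]
    · have h2 : (2 : fixedF σ) ≠ 0 := fun h => hpr ((Nat.prime_dvd_prime_iff_eq Fact.out Nat.prime_two).1
        ((CharP.cast_eq_zero_iff F r 2).1 (by
          have e := congrArg (fixedF σ).subtype h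
          rw [map_ofNat, map_zero] at e
          exact_mod_cast e))).symm
      let d : Fin n → fixedF σ := fun i => if i = i₀ then -1 else if i = i₁ then -1 else 1
      let i₂ : Fin n := ⟨2, by omega⟩
      have hd : (Matrix.diagonal d).det = 1 := by
        rw [Matrix.det_diagonal, ← Finset.prod_subset (Finset.subset_univ {i₀, i₁}) (fun x _ hx => by
          simp at hx; simp [d, hx.1, hx.2]), Finset.prod_pair h01]
        simp [d, h01.symm]
      let D : SpecialLinearGroup (Fin n) (fixedF σ) := ⟨_, hd⟩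
      refine ⟨QuotientGroup.mk D, psl0_mk_ne_one (i := i₀) (j := i₂) (by simp [i₀, i₂]) (Or.inr ?_), ?_⟩
      · simp [D, d, i₀, i₁, i₂, Fin.ext_iff]
        exact fun h => h2 (by linear_combination -h)
      · rw [← map_pow, ← QuotientGroup.mk_pow,
          show D ^ 2 = 1 from Subtype.ext (by
            rw [Matrix.SpecialLinearGroup.coe_pow, pow_two]
            show Matrix.diagonal d * Matrix.diagonal d = 1
            rw [Matrix.diagonal_mul_diagonal, ← Matrix.diagonal_one]
            congr 1; funext i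
            simp only [d]; split_ifs <;> simp)]
        simp
  · by_cases hpn : p ∣ n
    · obtain ⟨s, hs, i, j, hij, h⟩ := exists_perm_matrix (p := p) hodd (Nat.le_of_dvd (by omega) hpn) (fixedF σ)
      exact ⟨QuotientGroup.mk s, psl0_mk_ne_one hij (Or.inl h),
        by rw [← map_pow, ← QuotientGroup.mk_pow, hs, QuotientGroup.mk_one, map_one]⟩
    · obtain ⟨k, hk⟩ := exists_prime_orderOf_dvd_card' p hdvd
      obtain ⟨t, ht⟩ := QuotientGroup.mk_surjective k.1
      have h1 : fld σ (QuotientGroup.mk t : PSLn) = QuotientGroup.mk t := by rw [ht]; exact k.2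
      rw [fld_mk] at h1
      obtain ⟨c, hc1, hc⟩ := Matrix.SpecialLinearGroup.mem_center_iff.1 (QuotientGroup.eq.1 h1.symm)
      have he : frobHom σ (t ^ n) = t ^ n := by
        have hz : t⁻¹ * frobHom σ t ∈ Subgroup.center SLn := QuotientGroup.eq.1 h1.symm
        have hzn : (t⁻¹ * frobHom σ t) ^ n = 1 := Subtype.ext (by
          rw [Matrix.SpecialLinearGroup.coe_pow, ← hc, ← map_pow]
          simp only [Fintype.card_fin] at hc1
          rw [hc1, map_one]; rfl)
        have e : frobHom σ t = t * (t⁻¹ * frobHom σ t) := by group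
        rw [map_pow, e, (show Commute t (t⁻¹ * frobHom σ t) from Subgroup.mem_center_iff.1 hz t).mul_pow, hzn, mul_one]
      obtain ⟨s, hs⟩ := exists_psl0_eq he
      have hks : psl0 σ (QuotientGroup.mk s) = k.1 ^ n := by
        rw [psl0_mk, hs, QuotientGroup.mk_pow, ht]
      refine ⟨QuotientGroup.mk s, ?_, ?_⟩
      · rw [hks, ne_eq, ← orderOf_dvd_iff_pow_eq_one, Subgroup.orderOf_coe, hk]
        exact hpn
      · rw [hks, ← pow_mul, mul_comm, pow_mul, ← Subgroup.coe_pow, ← hk, pow_orderOf_eq_one]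
        simp

/-- An automorphism fixing `PSL_n(q₀)` pointwise is a power of the field automorphism. -/
theorem mem_zpowers_of_fix [Fintype F] (r : ℕ) [Fact r.Prime] [CharP F r] (hn : 2 ≤ n) (σ : F ≃+* F)
    {b : MulAut PSLn} (h : ∀ s, b (psl0 σ s) = psl0 σ s) : ∃ i : ℤ, b = fld σ ^ i := by
  classical
  haveI : Nontrivial (Fin n) := Fin.nontrivial_iff_two_le.2 hn
  have hfix : ∀ (i j : Fin n) (hij : i ≠ j) (c : F), σ c = c →
      b (QuotientGroup.mk (SpecialLinearGroup.transvection hij c)) =
        QuotientGroup.mk (SpecialLinearGroup.transvection hij c) := by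
    intro i j hij c hc
    obtain ⟨s, hs⟩ := exists_psl0_eq (σ := σ) (t := SpecialLinearGroup.transvection hij c) (Subtype.ext (by
      rw [frob_single, hc, coe_transvection]))
    rw [← hs, ← psl0_mk]
    exact h _
  obtain ⟨g, τ, hb⟩ : ∃ (g : GL (Fin n) F) (τ : F ≃+* F), b = innd g * fld τ := by
    obtain ⟨g, τ, hb | hb⟩ := exists_decomp (p := r) hn b
    · exact ⟨g, τ, hb⟩
    rcases Nat.lt_or_ge n 3 with h3 | h3
    · obtain rfl : n = 2 := by omega
      obtain ⟨J, hJ⟩ := gr_eq_innd_two (F := F)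
      exact ⟨g * sm τ J, τ, by rw [hb, hJ, mul_assoc, fld_mul_innd', ← mul_assoc, ← map_mul]⟩
    exfalso
    have key : ∀ (i j : Fin n) (_ : i ≠ j), g.val * Matrix.single i j 1 * (g⁻¹).val = - Matrix.single j i (1 : F) := by
      intro i j hij
      have h1 := hfix j i hij.symm 1 (map_one σ)
      rw [hb, MulAut.mul_apply, MulAut.mul_apply, gr_mk, fld_mk, innd_mk] at h1
      have h2 : (cnjHom g (frobHom τ (tinv (SpecialLinearGroup.transvection hij.symm (1 : F))))).1 =
          1 + g.val * (- Matrix.single i j 1) * (g⁻¹).val := by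
        rw [cnjHom_coe, frobHom_coe, tinv_coe, SpecialLinearGroup.transvection_inv, coe_transvection,
          Matrix.transpose_add, Matrix.transpose_one, Matrix.transpose_single,
          show ((1 : Matrix (Fin n) (Fin n) F) + Matrix.single i j (-1 : F)).map τ = (1 : Matrix (Fin n) (Fin n) F) + - Matrix.single i j (1 : F) from by
            rw [Matrix.map_add τ (map_add τ), Matrix.map_one τ (map_zero τ) (map_one τ)]
            congr 1
            ext a b
            simp [Matrix.single_apply, apply_ite τ]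
            split_ifs <;> simp,
          Matrix.mul_add, Matrix.add_mul, Matrix.mul_one, Units.mul_inv]
      have h3 := eq_of_mk_eq h2 (coe_transvection hij.symm 1)
        (by rw [Matrix.mul_neg, Matrix.neg_mul, neg_mul_neg, cnj_sq g hij]) (single_sq hij.symm _ _) h1
      rw [← h3, Matrix.mul_neg, Matrix.neg_mul, neg_neg]
    obtain ⟨a, b, c, hab, hac, hbc⟩ := Fintype.two_lt_card_iff.1 (show 2 < Fintype.card (Fin n) by rw [Fintype.card_fin]; omega)
    have h5 := key a c hac
    rw [show Matrix.single a c (1 : F) = Matrix.single a b (1 : F) * Matrix.single b c 1 by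
      rw [single_mul_single_same, mul_one]] at h5
    have e : g.val * (Matrix.single a b (1 : F) * Matrix.single b c 1) * (g⁻¹).val =
        g.val * Matrix.single a b (1 : F) * (g⁻¹).val * (g.val * Matrix.single b c 1 * (g⁻¹).val) := by
      rw [← Matrix.mul_assoc _ (g.val * Matrix.single b c 1), ← Matrix.mul_assoc _ g.val,
        Matrix.mul_assoc _ (g⁻¹).val g.val, Units.inv_mul, Matrix.mul_one]
      simp only [Matrix.mul_assoc]
    rw [e, key a b hab, key b c hbc, neg_mul_neg, single_mul_single_of_ne (h := hac)] at h5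
    simpa using congrFun (congrFun h5 c) a
  have key : ∀ (i j : Fin n) (_ : i ≠ j) (c : F), σ c = c →
      g.val * Matrix.single i j (τ c) = Matrix.single i j c * g.val := by
    intro i j hij c hc
    have h1 := hfix i j hij c hc
    rw [hb, MulAut.mul_apply, fld_mk, innd_mk] at h1
    have h2 : (cnjHom g (frobHom τ (SpecialLinearGroup.transvection hij c))).1 =
        1 + g.val * Matrix.single i j (τ c) * (g⁻¹).val := by
      rw [cnjHom_coe, frob_single, Matrix.mul_add, Matrix.add_mul, Matrix.mul_one, Units.mul_inv]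
    have h3 := eq_of_mk_eq h2 (coe_transvection hij c) (cnj_sq g hij _) (single_sq hij _ _) h1
    rw [← h3, Matrix.mul_assoc _ (g⁻¹).val, Units.inv_mul, Matrix.mul_one]
  have hg : g.val ∈ Set.range (Matrix.scalar (Fin n) : F → Matrix (Fin n) (Fin n) F) :=
    mem_range_scalar_of_commute_single fun i j hij => by
      have := key i j hij 1 (map_one σ)
      rw [map_one] at this
      exact this.symm
  rw [innd_scalar hg, one_mul] at hb
  have hτ : ∀ c, σ c = c → τ c = c := by
    intro c hc
    obtain ⟨d, hd⟩ := hg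
    obtain ⟨i, j, hij⟩ := exists_pair_ne (Fin n)
    have h1 := congrFun (congrFun (key i j hij c hc) i) j
    rw [← hd] at h1
    simp [Matrix.scalar_apply, Matrix.mul_diagonal, Matrix.diagonal_mul, mul_comm c] at h1
    rcases h1 with h1 | h1
    · exact h1
    · exfalso
      have h2 := Units.mul_inv g
      rw [← hd, h1, map_zero, Matrix.zero_mul] at h2
      exact one_ne_zero (α := F) (by simpa using (congrFun (congrFun h2 i) i).symm)
  haveI : Finite (F ≃+* F) := Finite.of_injective (fun σ => (σ : F → F)) fun a b h => RingEquiv.ext (congrFun h)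
  let G := Subgroup.zpowers (σ : RingAut F)
  let τ' : F →ₐ[FixedPoints.subfield G F] F := ⟨τ.toRingHom, fun c => by
    show τ (c : F) = c
    exact hτ c (c.2 ⟨σ, Subgroup.mem_zpowers _⟩)⟩
  obtain ⟨⟨_, i, rfl⟩, hi⟩ := (FixedPoints.toAlgHom_bijective G F).surjective τ'
  refine ⟨i, ?_⟩
  rw [hb, ← map_zpow]
  exact congrArg fld (RingEquiv.ext fun x => (AlgHom.congr_fun hi x).symm)

/-- **Balance for a standard field automorphism of prime order.** -/
theorem field_balance [Fintype F] (r : ℕ) [Fact r.Prime] [CharP F r] (hn : 2 ≤ n) {p : ℕ} [Fact p.Prime] (hpr : p ≠ r)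
    {σ : F ≃+* F} (hσ : orderOf σ = p) (A : Subgroup (MulAut PSLn)) (hinn : ∀ k : PSLn, MulAut.conj k ∈ A) :
    Cfsg.pPrimeCore p ↥(A ⊓ Subgroup.centralizer {fld σ}) ≠ ⊥ ↔
      Nat.Coprime p (Nat.card ↥(MonoidHom.eqLocus (fld σ : MulAut PSLn).toMonoidHom (MonoidHom.id PSLn))) := by
  have hp : p.Prime := Fact.out
  constructor
  · intro hne
    by_contra hdiv
    rw [hp.coprime_iff_not_dvd, not_not] at hdiv
    obtain ⟨s₀, hs₀, hs₀p⟩ := exists_order_p hn r hpr σ hdiv
    refine hne (core_eq_bot A hinn (fld σ) (conj_injective hn) (psl0 σ) (fld_psl0 σ) ?_ ?_ ?_)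
    · intro k hk s
      obtain ⟨s, rfl⟩ := QuotientGroup.mk_surjective s
      obtain ⟨t, rfl⟩ := QuotientGroup.mk_surjective k
      rw [fld_mk] at hk
      set e := SpecialLinearGroup.map (fixedF σ).subtype s
      have hz : t⁻¹ * frobHom σ t ∈ Subgroup.center SLn := QuotientGroup.eq.1 hk.symm
      have he : frobHom σ e = e := Subtype.ext (Matrix.ext fun i j => (s.1 i j).2)
      obtain ⟨s', hs'⟩ := exists_psl0_eq (σ := σ) (t := t * e * t⁻¹) (by
        rw [map_mul, map_mul, map_inv, he]
        have := Subgroup.mem_center_iff.1 hz e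
        calc frobHom σ t * e * (frobHom σ t)⁻¹ = t * (t⁻¹ * frobHom σ t * e) * (frobHom σ t)⁻¹ := by group
          _ = t * (e * (t⁻¹ * frobHom σ t)) * (frobHom σ t)⁻¹ := by rw [this]
          _ = _ := by group)
      exact ⟨QuotientGroup.mk s', by rw [psl0_mk, psl0_mk, hs']; rfl⟩
    · intro N hN hNp s hs
      haveI := hN
      rcases normal_bot_or_pow hn r N with rfl | h
      · rw [Subgroup.mem_bot.1 hs, map_one]
      · exfalso
        refine hs₀ (orderOf_eq_one_iff.1 ?_)
        have h1 := hNp _ (h s₀)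
        rw [map_pow, ((Nat.coprime_primes hp (Fact.out : r.Prime)).2 hpr).coprime_dvd_left
          (orderOf_dvd_of_pow_eq_one hs₀p) |>.orderOf_pow] at h1
        exact Nat.eq_one_of_dvd_coprimes h1 dvd_rfl (orderOf_dvd_of_pow_eq_one hs₀p)
    · intro b _ _ hb hfix
      obtain ⟨i, rfl⟩ := mem_zpowers_of_fix r hn σ hfix
      refine orderOf_eq_one_iff.1 (Nat.eq_one_of_dvd_coprimes hb dvd_rfl (orderOf_dvd_of_pow_eq_one ?_))
      rw [← zpow_natCast, ← _root_.zpow_mul, mul_comm, _root_.zpow_mul, zpow_natCast, ← map_pow, ← hσ,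
        pow_orderOf_eq_one, map_one, _root_.one_zpow]
  · intro hcop
    let i₀ : Fin n := ⟨0, by omega⟩
    let i₁ : Fin n := ⟨1, by omega⟩
    have h01 : i₀ ≠ i₁ := by simp [i₀, i₁]
    exact core_ne_bot A hinn _ (conj_injective hn) hcop (k := psl0 σ (QuotientGroup.mk (SpecialLinearGroup.transvection h01 1)))
      (fld_psl0 σ _) (psl0_mk_ne_one h01 (Or.inl (by rw [coe_transvection]; simp [h01])))

end Cfsg.Lib.Linear.Balance
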