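import Cfsg.Agent.Lib.Linear.Balance.Generic
import Cfsg.Agent.Lib.Linear.Balance.Matrices
import Cfsg.Agent.Lib.Linear.Balance.PSLField
import Cfsg.Agent.Lib.Linear.AutPSL.GraphForms
import Cfsg.Agent.Lib.Linear.AutPSp.Balance

/-!
# Balance for graph and graph-field involutions of `PSL_n(q)`, `q` odd

Such an involution is attached to a symmetric, alternating or Hermitian form. Its centraliser has trivial odd core: the odd
normal subgroups of the isometry group are scalar and only the trivial automorphism of odd order centralises it.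
-/

set_option autoImplicit false

namespace Cfsg.Lib.Linear.Balance

open Matrix Module
open Cfsg.Lib.Linear.AutPSL
open Cfsg.Lib.Linear.Descent (sc sm sc_val sc_comm)
open scoped MatrixGroups

theorem odd_order_eq_one_of_sq {G : Type*} [Group G] {b : G} (hb : (orderOf b).Coprime 2) (h : b * b = 1) : b = 1 :=
  orderOf_eq_one_iff.1 (Nat.eq_one_of_dvd_coprimes hb dvd_rfl (orderOf_dvd_of_pow_eq_one (by rw [sq, h])))

variable {n : ℕ} {F : Type*} [Field F] [Fintype F]

local notation "SLn" => Matrix.SpecialLinearGroup (Fin n) F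
local notation "PSLn" => Matrix.ProjectiveSpecialLinearGroup (Fin n) F

omit [Fintype F] in
theorem mk_eq_mk {s t : SLn} (h : (QuotientGroup.mk s : PSLn) = QuotientGroup.mk t) :
    ∃ c : F, c ^ n = 1 ∧ t.1 = c • s.1 := by
  obtain ⟨c, hc, he⟩ := Matrix.SpecialLinearGroup.mem_center_iff.1 (QuotientGroup.eq.1 h)
  refine ⟨c, by simpa using hc, ?_⟩
  have e : t.1 = s.1 * (s⁻¹ * t).1 := by
    rw [← Matrix.SpecialLinearGroup.coe_mul, mul_inv_cancel_left]
  rw [e, ← he, Matrix.scalar_apply, ← Matrix.smul_one_eq_diagonal, Matrix.mul_smul, Matrix.mul_one]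

/-- An automorphism of odd order is semilinear. -/
theorem exists_plain (r : ℕ) [Fact r.Prime] [CharP F r] (hn : 2 ≤ n) {b : MulAut PSLn} (hb : (orderOf b).Coprime 2) :
    ∃ (T : GL (Fin n) F) (τ : F ≃+* F), b = innd T * fld τ := by
  obtain ⟨k, hk⟩ : Odd (orderOf b) := (Nat.coprime_two_right).1 hb
  set c := b ^ (k + 1) with hc
  have hcc : b = c * c := by
    rw [hc, ← pow_add, show k + 1 + (k + 1) = orderOf b + 1 by omega, pow_succ, pow_orderOf_eq_one, one_mul]
  obtain ⟨g, τ, h | h⟩ := exists_decomp (p := r) hn c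
  · exact ⟨g * sm τ g, τ * τ, by
      rw [hcc, h, map_mul innd, map_mul fld, mul_assoc, ← mul_assoc (fld τ : MulAut PSLn), fld_mul_innd']
      simp only [mul_assoc]⟩
  · refine ⟨g * sm τ (dual g), τ * τ, ?_⟩
    rw [hcc, h, map_mul innd, map_mul fld]
    calc innd g * fld τ * gr * (innd g * fld τ * gr)
        = innd g * fld τ * (gr * innd g) * fld τ * gr := by simp only [mul_assoc]
      _ = innd g * fld τ * innd (dual g) * (gr * fld τ) * gr := by rw [gr_mul_innd]; simp only [mul_assoc]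
      _ = innd g * (fld τ * innd (dual g)) * fld τ * (gr * gr) := by rw [gr_mul_fld]; simp only [mul_assoc]
      _ = _ := by rw [gr_mul_gr, mul_one, fld_mul_innd']; simp only [mul_assoc]

omit [Fintype F] in
theorem fix_iff {N : GL (Fin n) F} {σ : F ≃+* F} {s : SLn} (h : s ∈ SI N σ) :
    (gr * innd N * fld σ : MulAut PSLn) (QuotientGroup.mk s) = QuotientGroup.mk s := by
  rw [MulAut.mul_apply, MulAut.mul_apply, fld_mk, innd_mk, gr_mk]
  refine congrArg _ ?_
  conv_rhs => rw [← tinv_tinv s]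
  refine congrArg tinv (Subtype.ext ?_)
  rw [cnjHom_coe, frobHom_coe, tinv_coe]
  have e : (s⁻¹).1.transpose * (s.1.transpose * N.val * s.1.map σ) = (s⁻¹).1.transpose * N.val := by rw [(mem_SI N σ).1 h]
  have h1 : (s⁻¹).1.transpose * s.1.transpose = 1 := by
    rw [← Matrix.transpose_mul, ← Matrix.SpecialLinearGroup.coe_mul, mul_inv_cancel]
    exact Matrix.transpose_one
  rw [← Matrix.mul_assoc, ← Matrix.mul_assoc, h1, one_mul] at e
  rw [e, Matrix.mul_assoc, Units.mul_inv, Matrix.mul_one]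

omit [Fintype F] in
theorem norm_SI {N : GL (Fin n) F} {σ : F ≃+* F} (t : SLn)
    (h : (gr * innd N * fld σ : MulAut PSLn) (QuotientGroup.mk t) = QuotientGroup.mk t) {s : SLn} (hs : s ∈ SI N σ) :
    t * s * t⁻¹ ∈ SI N σ := by
  rw [MulAut.mul_apply, MulAut.mul_apply, fld_mk, innd_mk, gr_mk] at h
  obtain ⟨c, -, hc⟩ := mk_eq_mk h
  -- `tᵀ N σ(t) = c N`
  set X := cnjHom N (frobHom σ t) with hX
  have hX1 : (tinv X).1.transpose * X.1 = 1 := by
    rw [tinv_coe, Matrix.transpose_transpose, ← Matrix.SpecialLinearGroup.coe_mul, inv_mul_cancel]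
    rfl
  have hform : t.1.transpose * N.val * t.1.map σ = c • N.val := by
    have hXv : X.1 = N.val * t.1.map σ * (N⁻¹).val := by rw [hX, cnjHom_coe, frobHom_coe]
    have h2 : t.1.transpose * (N.val * t.1.map σ * (N⁻¹).val) = c • (1 : Matrix (Fin n) (Fin n) F) := by
      rw [← hXv, hc, Matrix.transpose_smul, smul_mul_assoc, hX1]
    calc t.1.transpose * N.val * t.1.map σ
        = t.1.transpose * (N.val * t.1.map σ * (N⁻¹).val) * N.val := by
          simp only [Matrix.mul_assoc, Units.inv_mul, Matrix.mul_one]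
      _ = _ := by rw [h2, smul_mul_assoc, one_mul]
  have hts : ((t * s * t⁻¹).1).transpose * N.val * (t * s * t⁻¹).1.map σ = N.val := by
    have ht1 : t.1 * (t⁻¹).1 = 1 := by rw [← Matrix.SpecialLinearGroup.coe_mul, mul_inv_cancel]; rfl
    have h3 : c • N.val = (c • N.val : Matrix (Fin n) (Fin n) F) := rfl
    simp only [Matrix.SpecialLinearGroup.coe_mul, Matrix.transpose_mul, Matrix.map_mul]
    calc (t⁻¹).1.transpose * (s.1.transpose * t.1.transpose) * N.val * (t.1.map σ * s.1.map σ * (t⁻¹).1.map σ)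
        = (t⁻¹).1.transpose * (s.1.transpose * (t.1.transpose * N.val * t.1.map σ) * s.1.map σ) * (t⁻¹).1.map σ := by
          simp only [Matrix.mul_assoc]
      _ = (t⁻¹).1.transpose * (t.1.transpose * N.val * t.1.map σ) * (t⁻¹).1.map σ := by
          rw [hform, Matrix.mul_smul, Matrix.smul_mul, (mem_SI N σ).1 hs]
      _ = (t.1 * (t⁻¹).1).transpose * N.val * (t.1 * (t⁻¹).1).map σ := by
          simp only [Matrix.transpose_mul, Matrix.map_mul, Matrix.mul_assoc]
      _ = _ := by rw [ht1, Matrix.transpose_one, Matrix.map_one σ (map_zero σ) (map_one σ), one_mul, mul_one]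
  exact (mem_SI N σ).2 hts

/-- The projection of the isometries to `PSL`. -/
def siHom (N : GL (Fin n) F) (σ : F ≃+* F) : SI N σ →* PSLn :=
  (QuotientGroup.mk' (Subgroup.center SLn)).comp (SI N σ).subtype

omit [Fintype F] in
theorem siHom_apply (N : GL (Fin n) F) (σ : F ≃+* F) (s : SI N σ) : siHom N σ s = QuotientGroup.mk s.1 := rfl

omit [Fintype F] in
theorem siHom_eq_one {N : GL (Fin n) F} {σ : F ≃+* F} {s : SI N σ} {c : F} (h : s.1.1 = c • 1) :
    siHom N σ s = 1 := by
  refine (QuotientGroup.eq_one_iff _).2 (Matrix.SpecialLinearGroup.mem_center_iff.2 ⟨c, ?_, ?_⟩)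
  · have hd := s.1.2
    rw [h, Matrix.det_smul, Matrix.det_one, mul_one] at hd
    simpa using hd
  · show _ = s.1.1
    rw [h, Matrix.scalar_apply, Matrix.smul_one_eq_diagonal]

/-- The odd normal subgroups of the isometries of a symmetric or Hermitian form are scalar. -/
theorem si_htriv (hn : 3 ≤ n) (h2 : (2 : F) ≠ 0) {N : GL (Fin n) F} {σ : F ≃+* F}
    (hN : N.val.transpose = N.val.map σ) (hinv : ∀ x, σ (σ x) = x) (M : Subgroup (SI N σ)) (hM : M.Normal)
    (hMo : ∀ m ∈ M, (orderOf (siHom N σ m)).Coprime 2) (s : SI N σ) (hs : s ∈ M) : siHom N σ s = 1 := by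
  classical
  haveI : Fact (Nat.Prime 2) := ⟨Nat.prime_two⟩
  have hd : 3 ≤ finrank F (Fin n → F) := by rw [Module.finrank_fintype_fun_eq_card, Fintype.card_fin]; exact hn
  set φ := formOf N σ hN hinv with hφ
  haveI := hM
  set H := (siHom N σ).range with hH
  set ψ' : SI N σ →* H := (siHom N σ).rangeRestrict with hψ'
  set O := Cfsg.pPrimeCore 2 H with hO
  have hsurj : Function.Surjective ψ' := (siHom N σ).rangeRestrict_surjective
  have hle : M.map ψ' ≤ O := by
    haveI : (M.map ψ').Normal := Subgroup.Normal.map hM _ hsurj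
    refine Core.le_pPrimeCore (Core.coprime_iff_not_dvd'.2 fun hdvd => ?_)
    obtain ⟨⟨_, m, hm, rfl⟩, h⟩ := exists_prime_orderOf_dvd_card' 2 hdvd
    have h3 := hMo m hm
    rw [← Subgroup.orderOf_coe, ← Subgroup.orderOf_coe] at h
    change orderOf (siHom N σ m) = 2 at h
    rw [h] at h3
    exact absurd h3 (by decide)
  let toV : SI N σ →* ((Fin n → F) ≃ₗ[F] (Fin n → F)) :=
    toLE.comp (SpecialLinearGroup.toGL.comp (SI N σ).subtype)
  have htoV : ∀ (m : SI N σ) x, toV m x = m.1.1 *ᵥ x := fun m x => rfl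
  set N'' := (O.comap ψ').map toV with hN''
  have hscal : toV s ∈ RForm.scal F (Fin n → F) := by
    refine φ.mem_scal_of_normal h2 hd N'' ?_ ?_ ?_ ⟨s, hle ⟨s, hs, rfl⟩, rfl⟩
    · rintro _ ⟨m, -, rfl⟩ x y
      exact (iso_iff N σ).1 m.2 x y
    · rintro h hh _ ⟨m, hm, rfl⟩
      obtain ⟨g, rfl⟩ := toLE_surjective h
      have hg : g.val.transpose * N.val * g.val.map σ = N.val := (iso_iff N σ).2 hh
      have hconj : ∀ m : SLn, m ∈ SI N σ → cnjHom g m ∈ SI N σ := fun m hm => by
        rw [iso_iff N σ] at hg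
        refine (iso_iff N σ).2 fun x y => ?_
        have hm' := (iso_iff N σ).1 hm
        have hgi : ∀ x y, mForm N σ ((g⁻¹).val *ᵥ x) ((g⁻¹).val *ᵥ y) = mForm N σ x y := fun x y => by
          conv_rhs => rw [← Matrix.one_mulVec x, ← Matrix.one_mulVec y, ← Units.mul_inv g, ← Matrix.mulVec_mulVec,
            ← Matrix.mulVec_mulVec, hg]
        rw [cnjHom_coe, ← Matrix.mulVec_mulVec, ← Matrix.mulVec_mulVec, ← Matrix.mulVec_mulVec,
          ← Matrix.mulVec_mulVec, hg, hm', hgi]
      have hconj' : ∀ m : SLn, m ∈ SI N σ → cnjHom g⁻¹ m ∈ SI N σ := by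
        intro m hm
        have hgi : (g⁻¹).val.transpose * N.val * (g⁻¹).val.map σ = N.val := by
          refine (iso_iff N σ).2 fun x y => ?_
          conv_rhs => rw [← Matrix.one_mulVec x, ← Matrix.one_mulVec y, ← Units.mul_inv g, ← Matrix.mulVec_mulVec,
            ← Matrix.mulVec_mulVec, (iso_iff N σ).1 hg]
        rw [iso_iff N σ] at hgi
        refine (iso_iff N σ).2 fun x y => ?_
        rw [cnjHom_coe, ← Matrix.mulVec_mulVec, ← Matrix.mulVec_mulVec, ← Matrix.mulVec_mulVec,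
          ← Matrix.mulVec_mulVec, hgi, (iso_iff N σ).1 hm]
        rw [inv_inv]
        exact (iso_iff N σ).1 hg x y
      have hE : ∀ y, y ∈ H ↔ innd g y ∈ H := fun y => by
        constructor
        · rintro ⟨m, rfl⟩
          exact ⟨⟨_, hconj _ m.2⟩, rfl⟩
        · rintro ⟨m, hm⟩
          refine ⟨⟨_, hconj' _ m.2⟩, (innd g).injective ?_⟩
          rw [← hm, siHom_apply, innd_mk, siHom_apply]
          exact congrArg _ (by rw [← MulAut.mul_apply, ← map_mul, mul_inv_cancel, map_one]; rfl)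
      let E : H ≃* H :=
        { toFun := fun y => ⟨innd g y.1, (hE _).1 y.2⟩
          invFun := fun y => ⟨(innd g).symm y.1, (hE _).2 (by rw [MulEquiv.apply_symm_apply]; exact y.2)⟩
          left_inv := fun y => Subtype.ext ((innd g).symm_apply_apply _)
          right_inv := fun y => Subtype.ext ((innd g).apply_symm_apply _)
          map_mul' := fun a b => Subtype.ext (map_mul (innd g) _ _) }
      refine ⟨⟨_, hconj _ m.2⟩, ?_, ?_⟩
      · have hEm : E (ψ' m) ∈ O := by
          rw [hO, ← Core.map_pPrimeCore_equiv E]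
          exact Subgroup.mem_map_of_mem E.toMonoidHom hm
        exact hEm
      · show toLE (SpecialLinearGroup.toGL (cnjHom g m.1)) = toLE g * toLE (SpecialLinearGroup.toGL m.1) * (toLE g)⁻¹
        rw [← map_inv, ← map_mul, ← map_mul]
        exact congrArg _ (Units.ext rfl)
    · rintro _ ⟨m, hm, rfl⟩
      have hmo : (orderOf (ψ' m)).Coprime 2 := Nat.Coprime.coprime_dvd_left
        (Subgroup.orderOf_dvd_natCard O hm) (Core.pPrimeCore_coprime 2 H)
      refine ⟨orderOf (ψ' m), Nat.coprime_two_right.1 hmo, ?_⟩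
      have h1 : siHom N σ (m ^ orderOf (ψ' m)) = 1 := by
        have := congrArg Subtype.val (pow_orderOf_eq_one (ψ' m))
        rw [← map_pow] at this
        exact this
      rw [siHom_apply, QuotientGroup.eq_one_iff] at h1
      obtain ⟨c, -, hc⟩ := Matrix.SpecialLinearGroup.mem_center_iff.1 h1
      refine ⟨c, fun x => ?_⟩
      rw [← map_pow, htoV, ← hc, Matrix.scalar_apply, ← Matrix.smul_one_eq_diagonal, Matrix.smul_mulVec,
        Matrix.one_mulVec]
  obtain ⟨c, hc⟩ := hscal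
  exact siHom_eq_one (c := c) (Matrix.toLin'.injective (LinearMap.ext fun x => by
    show s.1.1 *ᵥ x = (c • (1 : Matrix (Fin n) (Fin n) F)) *ᵥ x
    rw [← htoV, hc, Matrix.smul_mulVec, Matrix.one_mulVec]))

/-- A semilinear automorphism fixing the isometries of a symmetric or Hermitian form has scalar square. -/
theorem si_hcent (hn : 3 ≤ n) (h2 : (2 : F) ≠ 0) {N : GL (Fin n) F} {σ : F ≃+* F}
    (hN : N.val.transpose = N.val.map σ) (hinv : ∀ x, σ (σ x) = x) (T : GL (Fin n) F) (τ : F ≃+* F)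
    (hfix : ∀ s, (innd T * fld τ : MulAut PSLn) (siHom N σ s) = siHom N σ s) :
    τ * τ = 1 ∧ (T * sm τ T).val ∈ Set.range (Matrix.scalar (Fin n) : F → Matrix (Fin n) (Fin n) F) := by
  have hd : 3 ≤ finrank F (Fin n → F) := by rw [Module.finrank_fintype_fun_eq_card, Fintype.card_fin]; exact hn
  set φ := formOf N σ hN hinv with hφ
  have hsemi : ∀ u w, φ.GoodPair u w →
      (T * sm τ T).val *ᵥ ((τ * τ) ∘ u) ∈ Submodule.span F ({u, w} : Set (Fin n → F)) ∧
      (T * sm τ T).val *ᵥ ((τ * τ) ∘ w) ∈ Submodule.span F ({u, w} : Set (Fin n → F)) := by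
    intro u w huw
    obtain ⟨s, hsI, hss, hsx⟩ := exists_pair_elt hN hinv huw
    have h1 := hfix ⟨s, hsI⟩
    rw [MulAut.mul_apply, siHom_apply, fld_mk, innd_mk] at h1
    obtain ⟨d, -, hd⟩ := mk_eq_mk h1
    -- `d • (T τ(s) T⁻¹) = s`
    have hcomm : ∀ v, d • T.val *ᵥ (τ ∘ (s.1 *ᵥ v)) = s.1 *ᵥ (T.val *ᵥ (τ ∘ v)) := fun v => by
      conv_rhs => rw [hd, cnjHom_coe, frobHom_coe, Matrix.smul_mulVec, ← Matrix.mulVec_mulVec, ← Matrix.mulVec_mulVec,
        Matrix.mulVec_mulVec _ (T⁻¹).val, Units.inv_mul, Matrix.one_mulVec, ← comp_mulVec]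
    have hs2 : ∀ v, s.1 *ᵥ (s.1 *ᵥ v) = v := fun v => by
      rw [Matrix.mulVec_mulVec, ← Matrix.SpecialLinearGroup.coe_mul, hss]
      exact Matrix.one_mulVec v
    have hh : ∀ v, T.val *ᵥ (τ ∘ (T.val *ᵥ (τ ∘ v))) = (T * sm τ T).val *ᵥ ((τ * τ) ∘ v) := fun v => by
      rw [comp_mulVec, Units.val_mul, Descent.sm_val, ← Matrix.mulVec_mulVec]
      rfl
    have hu0 : u ≠ 0 := φ.ne_zero_of huw.1
    have hdd : d * d = 1 := by
      have h3 : s.1 *ᵥ (d • T.val *ᵥ (τ ∘ (s.1 *ᵥ u))) = s.1 *ᵥ (s.1 *ᵥ (T.val *ᵥ (τ ∘ u))) := congrArg _ (hcomm u)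
      rw [Matrix.mulVec_smul, hs2, ← hcomm (s.1 *ᵥ u), hs2, smul_smul] at h3
      refine smul_left_injective F (show T.val *ᵥ (τ ∘ u) ≠ 0 from fun h0 => hu0 ?_) (h3.trans (one_smul F _).symm)
      have h4 := congrArg ((T⁻¹).val *ᵥ ·) h0
      simp only [Matrix.mulVec_mulVec, Units.inv_mul, Matrix.one_mulVec, Matrix.mulVec_zero] at h4
      exact funext fun i => τ.injective (by rw [show τ (u i) = 0 from congrFun h4 i]; simp)
    have hτd : τ d = d := by rcases mul_self_eq_one_iff.1 hdd with rfl | rfl <;> simp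
    have key : ∀ v, s.1 *ᵥ v = -v → s.1 *ᵥ ((T * sm τ T).val *ᵥ ((τ * τ) ∘ v)) = -((T * sm τ T).val *ᵥ ((τ * τ) ∘ v)) := by
      intro v hv
      rw [← hh, ← hcomm, ← hcomm, hv]
      rw [show τ ∘ (d • T.val *ᵥ (τ ∘ (-v))) = d • (τ ∘ (T.val *ᵥ (τ ∘ (-v)))) from funext fun i => by simp [hτd],
        Matrix.mulVec_smul, smul_smul, hdd, one_smul]
      rw [show τ ∘ (-v) = -(τ ∘ v) from funext fun i => map_neg τ _, Matrix.mulVec_neg,
        show τ ∘ (-(T.val *ᵥ (τ ∘ v))) = -(τ ∘ (T.val *ᵥ (τ ∘ v))) from funext fun i => map_neg τ _,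
        Matrix.mulVec_neg]
    have hneg : ∀ v, s.1 *ᵥ v = -v → (T * sm τ T).val *ᵥ ((τ * τ) ∘ v) ∈ Submodule.span F ({u, w} : Set (Fin n → F)) :=
      fun v hv => mem_span_of_neg hN hinv h2 huw (by rw [← hsx]; exact key v hv)
    refine ⟨hneg u ?_, hneg w ?_⟩
    · rw [hsx, φ.refl_perp huw.2.1 (φ.comm_zero huw.2.2), φ.refl_self]
    · rw [hsx, φ.refl_self, map_neg, φ.refl_perp huw.1 huw.2.2]
  exact semilinear_lines (by omega) (T * sm τ T) (τ * τ) fun v => by
    rcases eq_or_ne v 0 with rfl | hv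
    · exact ⟨0, by rw [show (⇑(τ * τ) ∘ (0 : Fin n → F)) = 0 from funext fun i => map_zero _, Matrix.mulVec_zero, zero_smul]⟩
    obtain ⟨a, b, hli, ha, hb'⟩ := φ.exists_planes h2 hd hv
    have hmem : ∀ c, φ.Plane v c → (T * sm τ T).val *ᵥ ((τ * τ) ∘ v) ∈ Submodule.span F ({v, c} : Set (Fin n → F)) := by
      rintro c ⟨u, w, hp, hs⟩
      obtain ⟨hu, hw⟩ := hsemi u w hp
      rw [hs]
      have hv' : v ∈ Submodule.span F ({u, w} : Set (Fin n → F)) := hs ▸ Submodule.subset_span (Set.mem_insert _ _)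
      obtain ⟨p, q, rfl⟩ := Submodule.mem_span_pair.1 hv'
      rw [show (⇑(τ * τ) ∘ (p • u + q • w)) = (τ * τ) p • (⇑(τ * τ) ∘ u) + (τ * τ) q • (⇑(τ * τ) ∘ w) from
        funext fun i => by simp, Matrix.mulVec_add, Matrix.mulVec_smul, Matrix.mulVec_smul]
      exact add_mem (Submodule.smul_mem _ _ hu) (Submodule.smul_mem _ _ hw)
    exact line_of_planes hli (hmem a ha) (hmem b hb')

section Alternating

variable (r : ℕ) [Fact r.Prime] [CharP F r] (hr2 : r ≠ 2)

include r hr2

/-- The odd normal subgroups of the isometries of an alternating form are scalar. -/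
theorem si_htriv' (hn : 3 ≤ n) {N : GL (Fin n) F} (hN : N.val.transpose = -N.val) (M : Subgroup (SI N 1))
    (hM : M.Normal) (hMo : ∀ m ∈ M, (orderOf (siHom N 1 m)).Coprime 2) (s : SI N 1) (hs : s ∈ M) :
    siHom N 1 s = 1 := by
  classical
  have h2 : (2 : F) ≠ 0 := fun h => hr2 ((Nat.prime_dvd_prime_iff_eq Fact.out Nat.prime_two).1
    ((CharP.cast_eq_zero_iff F r 2).1 (by exact_mod_cast h)))
  set B : LinearMap.BilinForm F (Fin n → F) := Matrix.toBilin' N.val with hBdef
  have hBv : ∀ x y, B x y = x ⬝ᵥ (N.val *ᵥ y) := fun x y => Matrix.toBilin'_apply' _ _ _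
  have hskew : ∀ x y : Fin n → F, x ⬝ᵥ (N.val *ᵥ y) = -(y ⬝ᵥ (N.val *ᵥ x)) := fun x y => by
    rw [Matrix.dotProduct_mulVec, ← Matrix.mulVec_transpose, hN, Matrix.neg_mulVec, neg_dotProduct, dotProduct_comm]
  have hA : B.IsAlt := fun x => by
    have h1 := hskew x x
    rw [hBv]
    have h' : (2 : F) * (x ⬝ᵥ (N.val *ᵥ x)) = 0 := by linear_combination h1
    exact (mul_eq_zero.1 h').resolve_left h2
  have hB : B.Nondegenerate := LinearMap.BilinForm.nondegenerate_toBilin'_of_det_ne_zero' _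
    (GeneralLinearGroup.det N).ne_zero
  have hmf : ∀ x y : Fin n → F, mForm N 1 x y = B x y := fun x y => (hBv x y).symm
  let e : SI N 1 →* Symp.iso B :=
    (toLE.comp (SpecialLinearGroup.toGL.comp (SI N 1).subtype)).codRestrict _ fun s u v => by
      rw [← hmf, ← hmf]
      exact (iso_iff N 1).1 s.2 u v
  have he : ∀ (s : SI N 1) x, ((e s : Symp.iso B) : (Fin n → F) ≃ₗ[F] (Fin n → F)) x = s.1.1 *ᵥ x := fun s x => rfl
  have htv : ∀ (v : Fin n → F) (c : F), ∃ s : SI N 1, e s = Symp.tvG hA v c := by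
    intro v c
    have hdet : (1 + replicateCol Unit v * replicateRow Unit (c • (N.val *ᵥ v))).det = 1 := by
      rw [Matrix.det_one_add_replicateCol_mul_replicateRow, smul_dotProduct, dotProduct_comm, ← hBv, hA v, smul_zero,
        add_zero]
    let s : SpecialLinearGroup (Fin n) F := ⟨_, hdet⟩
    have hs : ∀ x, s.1 *ᵥ x = x + (c * B x v) • v := fun x => by
      show (1 + _) *ᵥ x = _
      rw [Matrix.add_mulVec, Matrix.one_mulVec, ← Matrix.mulVec_mulVec, hBv]
      congr 1
      funext i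
      simp [Matrix.mulVec, dotProduct, Finset.mul_sum, Finset.sum_mul, mul_comm, mul_left_comm]
    refine ⟨⟨s, (iso_iff N 1).2 fun x y => ?_⟩, Subtype.ext (LinearEquiv.ext fun x => hs x)⟩
    rw [hmf, hmf, hs, hs]
    exact Symp.tv_mem_iso hA v c x y
  have hesurj : Function.Surjective e := fun g => by
    have hg : g ∈ Subgroup.closure {t : Symp.iso B | ∃ v c, t = Symp.tvG hA v c} := by
      rw [Symp.closure_tvG hB hA]; trivial
    induction hg using Subgroup.closure_induction with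
    | mem t ht => obtain ⟨v, c, rfl⟩ := ht; exact htv v c
    | one => exact ⟨1, map_one e⟩
    | mul u w _ _ hu hw => obtain ⟨a, rfl⟩ := hu; obtain ⟨b, rfl⟩ := hw; exact ⟨a * b, map_mul e a b⟩
    | inv u _ hu => obtain ⟨a, rfl⟩ := hu; exact ⟨a⁻¹, map_inv e a⟩
  have heinj : Function.Injective e := fun s t h => Subtype.ext (Subtype.ext (Matrix.toLin'.injective (LinearMap.ext fun x => by
    show s.1.1 *ᵥ x = t.1.1 *ᵥ x
    rw [← he, ← he, h])))
  -- a vector pairing to one
  have hpair : ∀ v : Fin n → F, v ≠ 0 → ∃ y, B y v = 1 := fun v hv => by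
    by_contra hc
    push Not at hc
    refine hv (hB.2 v fun y => ?_)
    by_contra h
    exact hc ((B y v)⁻¹ • y) (by rw [map_smul, LinearMap.smul_apply, smul_eq_mul, inv_mul_cancel₀ h])
  haveI : (M.map e).Normal := Subgroup.Normal.map hM _ hesurj
  rcases AutPSp.center_or_commutator_le hB hA (M.map e) with h | h
  · have hc := Subgroup.mem_center_iff.1 (h ⟨s, hs, rfl⟩)
    obtain ⟨-, c, hcs⟩ := semilinear_lines (by omega) (SpecialLinearGroup.toGL s.1) 1 fun v => by
      rcases eq_or_ne v 0 with rfl | hv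
      · exact ⟨0, by rw [zero_smul]; exact Matrix.mulVec_zero _⟩
      obtain ⟨y, hy⟩ := hpair v hv
      have h1 := LinearEquiv.congr_fun (congrArg Subtype.val (hc (Symp.tvG hA v 1))) y
      change (Symp.tv hA v 1) (s.1.1 *ᵥ y) = s.1.1 *ᵥ (Symp.tv hA v 1 y) at h1
      rw [Symp.tv_apply, Symp.tv_apply, hy, Matrix.mulVec_add, Matrix.mulVec_smul, add_right_inj, one_mul, one_mul,
        one_smul] at h1
      exact ⟨_, h1.symm⟩
    refine siHom_eq_one (c := c) ?_
    rw [show s.1.1 = Matrix.scalar (Fin n) c from hcs.symm, Matrix.scalar_apply, Matrix.smul_one_eq_diagonal]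
  · exfalso
    haveI := Subgroup.Normal.quotient_commutative_iff_commutator_le.2 h
    have hpow : ∀ g : Symp.iso B, g ^ r ∈ M.map e := fun g => by
      have hg : g ∈ Subgroup.closure {t : Symp.iso B | ∃ v c, t = Symp.tvG hA v c} := by
        rw [Symp.closure_tvG hB hA]; trivial
      rw [← QuotientGroup.eq_one_iff, QuotientGroup.mk_pow]
      induction hg using Subgroup.closure_induction with
      | mem t ht =>
        obtain ⟨v, c, rfl⟩ := ht
        have : ∀ k : ℕ, Symp.tvG hA v c ^ k = Symp.tvG hA v (k * c) := fun k => by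
          induction k with
          | zero =>
            refine Subtype.ext (LinearEquiv.ext fun x => ?_)
            show x = Symp.tv hA v _ x
            rw [Symp.tv_apply]; simp
          | succ k ih => rw [pow_succ, ih, ← Symp.tvG_add]; push_cast; ring_nf
        rw [← QuotientGroup.mk_pow, this, CharP.cast_eq_zero, zero_mul, ← QuotientGroup.mk_one]
        refine congrArg _ (Subtype.ext (LinearEquiv.ext fun x => ?_))
        show Symp.tv hA v 0 x = x
        rw [Symp.tv_apply]; simp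
      | one => simp
      | mul u w _ _ hu hw =>
        rw [QuotientGroup.mk_mul, (show Commute _ _ from mul_comm' _ _).mul_pow, hu, hw, one_mul]
      | inv u _ hu => rw [QuotientGroup.mk_inv, inv_pow, hu, inv_one]
    -- an involution that is not scalar
    obtain ⟨u, hu⟩ : ∃ u : Fin n → F, u ≠ 0 := ⟨Pi.single ⟨0, by omega⟩ 1, Pi.single_ne_zero_iff.2 one_ne_zero⟩
    obtain ⟨w, hw⟩ := hpair u hu
    have hflip : ∀ x y, B x y = -B y x := fun x y => by rw [hBv, hBv]; exact hskew x y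
    have huw : B u w = -1 := by rw [hflip, hw]
    let R₀ : (Fin n → F) →ₗ[F] (Fin n → F) :=
      LinearMap.id - (((2 : F) • (B.flip u)).smulRight w) + ((2 : F) • (B.flip w)).smulRight u
    have hR₀ : ∀ x, R₀ x = x - (2 * B x u) • w + (2 * B x w) • u := fun x => by simp [R₀]
    have hR₀i : Function.Involutive R₀ := fun x => by
      simp only [hR₀, map_add, map_sub, map_smul, LinearMap.add_apply, LinearMap.sub_apply, LinearMap.smul_apply,
        smul_eq_mul, hA u, hA w, hw, huw]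
      match_scalars <;> ring
    let R : (Fin n → F) ≃ₗ[F] (Fin n → F) := LinearEquiv.ofInvolutive R₀ hR₀i
    have hRI : R ∈ Symp.iso B := fun x y => by
      show B (R₀ x) (R₀ y) = B x y
      simp only [hR₀, map_add, map_sub, map_smul, LinearMap.add_apply, LinearMap.sub_apply, LinearMap.smul_apply,
        smul_eq_mul, hA u, hA w, hw, huw, hflip u y, hflip w y]
      ring
    obtain ⟨s₀, hs₀⟩ := hesurj ⟨R, hRI⟩
    have hs₀x : ∀ x, s₀.1.1 *ᵥ x = R₀ x := fun x => by rw [← he, hs₀]; rfl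
    have hs₀2 : s₀ * s₀ = 1 := heinj (by
      rw [map_mul, map_one, hs₀]
      exact Subtype.ext (LinearEquiv.ext fun x => hR₀i x))
    obtain ⟨m, hm, hme⟩ := hpow (e s₀)
    rw [← map_pow] at hme
    have hr : Odd r := (Fact.out : r.Prime).odd_of_ne_two hr2
    have hsr : s₀ ^ r = s₀ := by
      obtain ⟨k, rfl⟩ := hr
      rw [pow_succ, pow_mul, sq, hs₀2, one_pow, one_mul]
    rw [hsr] at hme
    have h1 := hMo s₀ (heinj hme ▸ hm)
    have h2' : siHom N 1 s₀ = 1 := odd_order_eq_one_of_sq h1 (by rw [← map_mul, hs₀2, map_one])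
    rw [siHom_apply, QuotientGroup.eq_one_iff] at h2'
    obtain ⟨c, -, hc⟩ := Matrix.SpecialLinearGroup.mem_center_iff.1 h2'
    have hscal : ∀ x, R₀ x = c • x := fun x => by
      rw [← hs₀x, ← hc, Matrix.scalar_apply, ← Matrix.smul_one_eq_diagonal, Matrix.smul_mulVec, Matrix.one_mulVec]
    obtain ⟨z, ⟨hzu, hzw⟩, hz⟩ : ∃ z : Fin n → F, (B z u = 0 ∧ B z w = 0) ∧ z ≠ 0 := by
      let L : (Fin n → F) →ₗ[F] F × F := (B.flip u).prod (B.flip w)
      have hne : LinearMap.ker L ≠ ⊥ := fun h0 => by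
        have h1 := LinearMap.finrank_range_add_finrank_ker L
        have h3 := Submodule.finrank_le (LinearMap.range L)
        rw [h0, finrank_bot, Module.finrank_fintype_fun_eq_card, Fintype.card_fin] at h1
        rw [finrank_prod, finrank_self] at h3
        omega
      obtain ⟨z, hz, hz0⟩ := (Submodule.ne_bot_iff _).1 hne
      have h := LinearMap.mem_ker.1 hz
      exact ⟨z, ⟨congrArg Prod.fst h, congrArg Prod.snd h⟩, hz0⟩
    have e1 := hscal z
    rw [hR₀, hzu, hzw, mul_zero, zero_smul, zero_smul, sub_zero, add_zero] at e1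
    have e2 := hscal u
    rw [hR₀, hA u, huw, mul_zero, zero_smul, sub_zero] at e2
    have hc1 : c = 1 := smul_left_injective F hz (e1.symm.trans (one_smul F z).symm)
    rw [hc1, one_smul] at e2
    have e3 : ((2 : F) * -1) • u = 0 := by linear_combination (norm := module) e2
    exact hu ((smul_eq_zero.1 e3).resolve_left (by simpa using h2))

/-- A semilinear automorphism fixing the isometries of an alternating form is trivial. -/
theorem si_hcent' (hn : 3 ≤ n) {N : GL (Fin n) F} (hN : N.val.transpose = -N.val) (T : GL (Fin n) F)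
    (τ : F ≃+* F) (hfix : ∀ s, (innd T * fld τ : MulAut PSLn) (siHom N 1 s) = siHom N 1 s) :
    τ = 1 ∧ T.val ∈ Set.range (Matrix.scalar (Fin n) : F → Matrix (Fin n) (Fin n) F) := by
  classical
  have h2 : (2 : F) ≠ 0 := fun h => hr2 ((Nat.prime_dvd_prime_iff_eq Fact.out Nat.prime_two).1
    ((CharP.cast_eq_zero_iff F r 2).1 (by exact_mod_cast h)))
  set B : LinearMap.BilinForm F (Fin n → F) := Matrix.toBilin' N.val with hBdef
  have hBv : ∀ x y, B x y = x ⬝ᵥ (N.val *ᵥ y) := fun x y => Matrix.toBilin'_apply' _ _ _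
  have hskew : ∀ x y : Fin n → F, x ⬝ᵥ (N.val *ᵥ y) = -(y ⬝ᵥ (N.val *ᵥ x)) := fun x y => by
    rw [Matrix.dotProduct_mulVec, ← Matrix.mulVec_transpose, hN, Matrix.neg_mulVec, neg_dotProduct, dotProduct_comm]
  have hA : B.IsAlt := fun x => by
    have h1 := hskew x x
    rw [hBv]
    have h' : (2 : F) * (x ⬝ᵥ (N.val *ᵥ x)) = 0 := by linear_combination h1
    exact (mul_eq_zero.1 h').resolve_left h2
  have hB : B.Nondegenerate := LinearMap.BilinForm.nondegenerate_toBilin'_of_det_ne_zero' _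
    (GeneralLinearGroup.det N).ne_zero
  have hmf : ∀ x y : Fin n → F, mForm N 1 x y = B x y := fun x y => (hBv x y).symm
  let e : SI N 1 →* Symp.iso B :=
    (toLE.comp (SpecialLinearGroup.toGL.comp (SI N 1).subtype)).codRestrict _ fun s u v => by
      rw [← hmf, ← hmf]
      exact (iso_iff N 1).1 s.2 u v
  have he : ∀ (s : SI N 1) x, ((e s : Symp.iso B) : (Fin n → F) ≃ₗ[F] (Fin n → F)) x = s.1.1 *ᵥ x := fun s x => rfl
  have htv : ∀ (v : Fin n → F) (c : F), ∃ s : SI N 1, e s = Symp.tvG hA v c := by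
    intro v c
    have hdet : (1 + replicateCol Unit v * replicateRow Unit (c • (N.val *ᵥ v))).det = 1 := by
      rw [Matrix.det_one_add_replicateCol_mul_replicateRow, smul_dotProduct, dotProduct_comm, ← hBv, hA v, smul_zero,
        add_zero]
    let s : SpecialLinearGroup (Fin n) F := ⟨_, hdet⟩
    have hs : ∀ x, s.1 *ᵥ x = x + (c * B x v) • v := fun x => by
      show (1 + _) *ᵥ x = _
      rw [Matrix.add_mulVec, Matrix.one_mulVec, ← Matrix.mulVec_mulVec, hBv]
      congr 1
      funext i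
      simp [Matrix.mulVec, dotProduct, Finset.mul_sum, Finset.sum_mul, mul_comm, mul_left_comm]
    refine ⟨⟨s, (iso_iff N 1).2 fun x y => ?_⟩, Subtype.ext (LinearEquiv.ext fun x => hs x)⟩
    rw [hmf, hmf, hs, hs]
    exact Symp.tv_mem_iso hA v c x y
  have hesurj : Function.Surjective e := fun g => by
    have hg : g ∈ Subgroup.closure {t : Symp.iso B | ∃ v c, t = Symp.tvG hA v c} := by
      rw [Symp.closure_tvG hB hA]; trivial
    induction hg using Subgroup.closure_induction with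
    | mem t ht => obtain ⟨v, c, rfl⟩ := ht; exact htv v c
    | one => exact ⟨1, map_one e⟩
    | mul u w _ _ hu hw => obtain ⟨a, rfl⟩ := hu; obtain ⟨b, rfl⟩ := hw; exact ⟨a * b, map_mul e a b⟩
    | inv u _ hu => obtain ⟨a, rfl⟩ := hu; exact ⟨a⁻¹, map_inv e a⟩
  have heinj : Function.Injective e := fun s t h => Subtype.ext (Subtype.ext (Matrix.toLin'.injective (LinearMap.ext fun x => by
    show s.1.1 *ᵥ x = t.1.1 *ᵥ x
    rw [← he, ← he, h])))
  -- a vector pairing to one
  have hpair : ∀ v : Fin n → F, v ≠ 0 → ∃ y, B y v = 1 := fun v hv => by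
    by_contra hc
    push Not at hc
    refine hv (hB.2 v fun y => ?_)
    by_contra h
    exact hc ((B y v)⁻¹ • y) (by rw [map_smul, LinearMap.smul_apply, smul_eq_mul, inv_mul_cancel₀ h])
  exact semilinear_lines (by omega) T τ fun v => by
    rcases eq_or_ne v 0 with rfl | hv
    · exact ⟨0, by rw [show (⇑τ ∘ (0 : Fin n → F)) = 0 from funext fun i => map_zero τ, Matrix.mulVec_zero, zero_smul]⟩
    set a := N.val *ᵥ v with ha
    have hav : a ⬝ᵥ v = 0 := by rw [dotProduct_comm, ha, ← hBv, hA v]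
    have hmat : replicateCol Unit v * replicateRow Unit a = Matrix.vecMulVec v a := by rw [Matrix.vecMulVec_eq Unit]
    obtain ⟨s, hs⟩ := htv v 1
    have hsm : s.1.1 = 1 + Matrix.vecMulVec v a := Matrix.toLin'.injective (LinearMap.ext fun x => by
      show s.1.1 *ᵥ x = (1 + Matrix.vecMulVec v a) *ᵥ x
      rw [← he, hs, Matrix.add_mulVec, Matrix.one_mulVec, Matrix.vecMulVec_mulVec, op_smul_eq_smul]
      show Symp.tv hA v 1 x = _
      rw [Symp.tv_apply, one_mul, hBv, dotProduct_comm a])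
    have hsq : Matrix.vecMulVec v a * Matrix.vecMulVec v a = 0 := by
      rw [Matrix.mul_vecMulVec, Matrix.vecMulVec_mulVec, hav]
      simp
    have h1 := hfix s
    rw [MulAut.mul_apply, siHom_apply, fld_mk, innd_mk] at h1
    have hL : (cnjHom T (frobHom τ s.1)).1 = 1 + Matrix.vecMulVec (T.val *ᵥ (τ ∘ v)) ((τ ∘ a) ᵥ* (T⁻¹).val) := by
      rw [cnjHom_coe, frobHom_coe, hsm, Matrix.map_add τ (map_add τ), Matrix.map_one τ (map_zero τ) (map_one τ),
        show (Matrix.vecMulVec v a).map τ = Matrix.vecMulVec (τ ∘ v) (τ ∘ a) from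
          Matrix.ext fun i j => by simp [Matrix.vecMulVec],
        Matrix.mul_add, Matrix.add_mul, Matrix.mul_one, Units.mul_inv, Matrix.mul_vecMulVec, Matrix.vecMulVec_mul]
    have hsqL : Matrix.vecMulVec (T.val *ᵥ (τ ∘ v)) ((τ ∘ a) ᵥ* (T⁻¹).val) *
        Matrix.vecMulVec (T.val *ᵥ (τ ∘ v)) ((τ ∘ a) ᵥ* (T⁻¹).val) = 0 := by
      rw [Matrix.mul_vecMulVec, Matrix.vecMulVec_mulVec, ← Matrix.dotProduct_mulVec, Matrix.mulVec_mulVec,
        Units.inv_mul, Matrix.one_mulVec, show (⇑τ ∘ a) ⬝ᵥ (⇑τ ∘ v) = τ (a ⬝ᵥ v) from by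
          simp [dotProduct, map_sum], hav]
      simp
    have h3 := eq_of_mk_eq hL hsm hsqL hsq h1
    obtain ⟨y, hy⟩ := hpair v hv
    have hay : a ⬝ᵥ y = 1 := by rw [dotProduct_comm, ha, ← hBv, hy]
    have h4 := congrArg (fun M => M *ᵥ (T.val *ᵥ (τ ∘ y))) h3
    rw [Matrix.vecMulVec_mulVec, Matrix.vecMulVec_mulVec, op_smul_eq_smul, op_smul_eq_smul,
      ← Matrix.dotProduct_mulVec, Matrix.mulVec_mulVec (τ ∘ y) (T⁻¹).val T.val, Units.inv_mul, Matrix.one_mulVec] at h4
    rw [show (⇑τ ∘ a) ⬝ᵥ (⇑τ ∘ y) = τ (a ⬝ᵥ y) from by simp [dotProduct, map_sum], hay, map_one, one_smul] at h4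
    exact ⟨_, h4⟩

end Alternating

omit [Fintype F] in
theorem exists_si_conj {N : GL (Fin n) F} {σ : F ≃+* F} (k : PSLn)
    (hk : (gr * innd N * fld σ : MulAut PSLn) k = k) (s : SI N σ) :
    ∃ s', k * siHom N σ s * k⁻¹ = siHom N σ s' := by
  obtain ⟨t, rfl⟩ := QuotientGroup.mk_surjective k
  exact ⟨⟨_, norm_SI t hk s.2⟩, rfl⟩

/-- **Symmetric and Hermitian case.** -/
theorem graph_core_eq_bot (r : ℕ) [Fact r.Prime] [CharP F r] (hn : 3 ≤ n) (h2 : (2 : F) ≠ 0)
    (A : Subgroup (MulAut PSLn)) (hinn : ∀ k : PSLn, MulAut.conj k ∈ A) {N : GL (Fin n) F} {σ : F ≃+* F}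
    (hN : N.val.transpose = N.val.map σ) (hinv : ∀ x, σ (σ x) = x) :
    Cfsg.pPrimeCore 2 ↥(A ⊓ Subgroup.centralizer {(gr * innd N * fld σ : MulAut PSLn)}) = ⊥ := by
  refine core_eq_bot A hinn _ (conj_injective (by omega)) (siHom N σ) (fun s => fix_iff s.2) exists_si_conj
    (si_htriv hn h2 hN hinv) ?_
  intro b _ _ hb hfix
  obtain ⟨T, τ, rfl⟩ := exists_plain r (by omega) hb
  refine odd_order_eq_one_of_sq hb ?_
  obtain ⟨hτ, hT⟩ := si_hcent hn h2 hN hinv T τ hfix
  have hsq : (innd T * fld τ : MulAut PSLn) * (innd T * fld τ) = innd (T * sm τ T) * fld (τ * τ) := by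
    rw [map_mul innd, map_mul fld, mul_assoc, ← mul_assoc (fld τ : MulAut PSLn), fld_mul_innd']
    simp only [mul_assoc]
  rw [hsq, hτ, map_one, mul_one, innd_scalar hT]

/-- **Alternating case.** -/
theorem graph_core_eq_bot' (r : ℕ) [Fact r.Prime] [CharP F r] (hn : 3 ≤ n) (hr2 : r ≠ 2)
    (A : Subgroup (MulAut PSLn)) (hinn : ∀ k : PSLn, MulAut.conj k ∈ A) {N : GL (Fin n) F}
    (hN : N.val.transpose = -N.val) :
    Cfsg.pPrimeCore 2 ↥(A ⊓ Subgroup.centralizer {(gr * innd N * fld 1 : MulAut PSLn)}) = ⊥ := by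
  refine core_eq_bot A hinn _ (conj_injective (by omega)) (siHom N 1) (fun s => fix_iff s.2) exists_si_conj
    (si_htriv' r hr2 hn hN) ?_
  intro b _ _ hb hfix
  obtain ⟨T, τ, rfl⟩ := exists_plain r (by omega) hb
  obtain ⟨hτ, hT⟩ := si_hcent' r hr2 hn hN T τ hfix
  rw [hτ, map_one, mul_one, innd_scalar hT]

/-- **Graph and graph-field involutions have no core.** -/
theorem graph_balance (r : ℕ) [Fact r.Prime] [CharP F r] (hn : 3 ≤ n) (hr2 : r ≠ 2)
    (A : Subgroup (MulAut PSLn)) (hinn : ∀ k : PSLn, MulAut.conj k ∈ A) {x : MulAut PSLn} (hord : x * x = 1)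
    {g : GL (Fin n) F} {σ : F ≃+* F} (hx : x = innd g * fld σ * gr) :
    Cfsg.pPrimeCore 2 ↥(A ⊓ Subgroup.centralizer {x}) = ⊥ := by
  haveI : Nonempty (Fin n) := ⟨⟨0, by omega⟩⟩
  set N := dual g with hNdef
  have hxN : x = gr * innd N * fld σ := by
    rw [hx, mul_assoc, ← gr_mul_fld, ← mul_assoc, GForms.innd_mul_gr]
  have h1 : (innd (dual N * sm σ N) : MulAut PSLn) = fld (σ * σ)⁻¹ := by
    rw [map_inv, eq_inv_iff_mul_eq_one, map_mul, map_mul]
    calc innd (dual N) * innd (sm σ N) * (fld σ * fld σ)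
        = innd (dual N) * (innd (sm σ N) * fld σ) * fld σ := by simp only [mul_assoc]
      _ = innd (dual N) * (gr * gr) * (fld σ * innd N) * fld σ := by rw [← fld_mul_innd', gr_mul_gr, mul_one]
      _ = innd (dual N) * gr * (gr * fld σ) * innd N * fld σ := by simp only [mul_assoc]
      _ = gr * innd N * fld σ * (gr * innd N * fld σ) := by rw [gr_mul_fld, ← gr_mul_innd]; simp only [mul_assoc]
      _ = 1 := by rw [← hxN, hord]
  haveI : Nontrivial (Fin n) := Fin.nontrivial_iff_two_le.2 (by omega)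
  obtain ⟨hσσ, hs⟩ := innd_eq_fld h1
  have hinv : ∀ y, σ (σ y) = y := fun y => by
    have h : σ * σ = 1 := inv_eq_one.1 hσσ
    exact RingEquiv.congr_fun h y
  obtain ⟨c, hc⟩ := hs
  have hσN : N.val.map σ = c • N.val.transpose := by
    have h3 : N.val.transpose * ((dual N * sm σ N).val) = N.val.map σ := by
      rw [Units.val_mul, Descent.sm_val, ← Matrix.mul_assoc]
      rw [show N.val.transpose * (dual N).val = 1 by
        show N.val.transpose * (N⁻¹).val.transpose = 1
        rw [← Matrix.transpose_mul, Units.inv_mul, Matrix.transpose_one], one_mul]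
    rw [← h3, ← hc, Matrix.scalar_apply, ← Matrix.smul_one_eq_diagonal, Matrix.mul_smul, Matrix.mul_one]
  have hN0 : N.val ≠ 0 := GForms.val_ne_zero (by omega) N
  have hc0 : c ≠ 0 := fun h0 => hN0 (Matrix.ext fun i j => by
    have := congrFun (congrFun hσN i) j
    simpa [h0] using this)
  by_cases hσ : σ = 1
  · subst hσ
    have hN1 : N.val = c • N.val.transpose := hσN
    rw [hxN]
    rcases GForms.scale_iff hN0 (c := Units.mk0 c hc0) hN1 with h | h
    · refine graph_core_eq_bot r hn (fun h0 => hr2 ((Nat.prime_dvd_prime_iff_eq Fact.out Nat.prime_two).1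
        ((CharP.cast_eq_zero_iff F r 2).1 (by exact_mod_cast h0)))) A hinn (h.trans (by ext i j; rfl)) fun y => rfl
    · exact graph_core_eq_bot' r hn hr2 A hinn h
  · haveI : Fact (Nat.Prime 2) := ⟨Nat.prime_two⟩
    have hσ2 : orderOf σ = 2 := orderOf_eq_prime (RingEquiv.ext hinv) hσ
    have hcc : c * σ c = 1 := by
      have h4 : N.val = (σ c * c) • N.val := by
        ext i j
        have e1 := congrFun (congrFun hσN i) j
        have e2 := congrFun (congrFun hσN j) i
        simp at e1 e2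
        have e3 := congrArg σ e1
        rw [hinv, map_mul, e2] at e3
        rw [Matrix.smul_apply, smul_eq_mul, mul_assoc, ← e3]
      by_contra hne
      exact hN0 ((smul_eq_zero.1 (show (σ c * c - 1) • N.val = 0 by rw [sub_smul, one_smul, ← h4, sub_self])).resolve_left
        (sub_ne_zero.2 (by rwa [mul_comm])))
    obtain ⟨e, he⟩ := Descent.hilbert90 (c := Units.mk0 c hc0) hσ2 (Units.ext (by
      simpa [Descent.nrm, Finset.prod_range_succ] using hcc))
    have hce : c * σ e = e := by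
      rw [eq_mul_inv_iff_mul_eq] at he
      simpa using congrArg Units.val he
    have hN' : (sc e * N).val.transpose = (sc e * N).val.map σ := by
      rw [Units.val_mul, sc_val, smul_mul_assoc, one_mul, Matrix.transpose_smul]
      ext i j
      have := congrFun (congrFun hσN i) j
      simp at this ⊢
      rw [this, ← mul_assoc, mul_comm (σ (e : F)), hce]
    rw [hxN, show (innd N : MulAut PSLn) = innd (sc e * N) by rw [map_mul, innd_sc, one_mul]]
    exact graph_core_eq_bot r hn (fun h0 => hr2 ((Nat.prime_dvd_prime_iff_eq Fact.out Nat.prime_two).1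
      ((CharP.cast_eq_zero_iff F r 2).1 (by exact_mod_cast h0)))) A hinn hN' hinv

end Cfsg.Lib.Linear.Balance
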