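import Cfsg.Agent.Lib.Linear.AutPSU.Field
import Cfsg.Agent.Lib.Linear.Balance.Generic
import Cfsg.Agent.Lib.Linear.Balance.PSLField
import Cfsg.Agent.Lib.H3.UnitaryThreeTwo
import Cfsg.Agent.S0283

/-!
# Balance for field automorphisms of odd prime order of `PSU_n(q)`

The image of `SU_n(q₀)` is fixed. When `p` divides the number of fixed points it has an element of order `p`, so the core of the
centraliser meets it trivially; an automorphism commuting with it and with the field automorphism `x` is a power of `x`.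
-/

set_option autoImplicit false

namespace Cfsg.Lib.Linear.Balance

open Matrix
open Cfsg.Lib.Linear.AutPSU
open Cfsg.Lib.Linear.Descent (sc sm)
open scoped MatrixGroups

set_option quotPrecheck false

section Scalars

variable {n : ℕ} {F : Type*} [Field F] {q : ℕ}

local notation "G" => ↥(Cfsg.SU n F q)
local notation "P" => Cfsg.PSU n F q

theorem psu_mk_eq_one_of_scalar {s : G} {c : F} (h : s.1.1 = c • (1 : Matrix (Fin n) (Fin n) F)) :
    (QuotientGroup.mk s : P) = 1 := by
  refine (QuotientGroup.eq_one_iff _).2 (Subgroup.mem_center_iff.2 fun t => Subtype.ext (Subtype.ext ?_))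
  show t.1.1 * s.1.1 = s.1.1 * t.1.1
  rw [h, Matrix.smul_mul, Matrix.mul_smul, Matrix.one_mul, Matrix.mul_one]

theorem scalar_of_psu_mk_eq_one [Fintype F] (hF : Fintype.card F = q ^ 2) (r : ℕ) [Fact r.Prime] [CharP F r]
    (hn : 3 ≤ n) {s : G} (h : (QuotientGroup.mk s : P) = 1) :
    ∃ c : F, s.1.1 = c • (1 : Matrix (Fin n) (Fin n) F) :=
  (innd_mul_fld_eq_one hF r hn (g := toGU s) (σ := 1) (by
    rw [map_one, mul_one, ← conj_mk_eq, h, map_one])).1

/-- A permutation matrix of sign one is unitary. -/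
theorem perm_mem_SU {π : Equiv.Perm (Fin n)} {s : Matrix.SpecialLinearGroup (Fin n) F} (hs : s.1 = π.permMatrix F) :
    s ∈ Cfsg.SU n F q := fun u v => by
  show Cfsg.hermForm n F q (s.1 *ᵥ u) (s.1 *ᵥ v) = _
  rw [hs, Matrix.permMatrix_mulVec, Matrix.permMatrix_mulVec]
  exact Equiv.sum_comp π fun i => u i * v i ^ q

end Scalars

/-- A permutation matrix of odd prime order in `SU`. -/
theorem exists_perm_SU {n p : ℕ} [hp : Fact p.Prime] (hodd : Odd p) (hle : p ≤ n) (F : Type*) [Field F] (q : ℕ) :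
    ∃ s : ↥(Cfsg.SU n F q), s ^ p = 1 ∧ ∃ i j, i ≠ j ∧ s.1.1 i j ≠ 0 := by
  obtain ⟨π, hπ⟩ := exists_prime_orderOf_dvd_card' (G := Equiv.Perm (Fin n)) p (by
    rw [Nat.card_perm, Nat.card_fin]; exact Nat.dvd_factorial hp.out.pos hle)
  have hπp : π ^ p = 1 := by rw [← hπ, pow_orderOf_eq_one]
  have hpow : ∀ k : ℕ, (π.permMatrix F) ^ k = (π ^ k).permMatrix F := by
    intro k
    induction k with
    | zero => simp
    | succ k ih => rw [pow_succ, ih, pow_succ', Matrix.permMatrix_mul]
  have hsign : Equiv.Perm.sign π = 1 := by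
    have h := congrArg Equiv.Perm.sign hπp
    rw [map_pow, map_one] at h
    rcases Int.units_eq_one_or (Equiv.Perm.sign π) with h1 | h1
    · exact h1
    · rw [h1, hodd.neg_one_pow] at h
      exact absurd h (by decide)
  obtain ⟨i, hi⟩ : ∃ i, π i ≠ i := by
    by_contra! h
    have : π = 1 := Equiv.ext h
    rw [this, orderOf_one] at hπ
    exact hp.out.one_lt.ne hπ
  let s : SpecialLinearGroup (Fin n) F := ⟨π.permMatrix F, by rw [Matrix.det_permutation, hsign]; simp⟩
  refine ⟨⟨s, perm_mem_SU rfl⟩, Subtype.ext (Subtype.ext ?_), i, π i, hi.symm, ?_⟩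
  · show (s ^ p).1 = _
    rw [Matrix.SpecialLinearGroup.coe_pow, show s.1 = π.permMatrix F from rfl, hpow, hπp, Matrix.permMatrix_one]
    rfl
  · simp [s, Equiv.Perm.permMatrix]

/-- The exceptional group `SU_3(2)`: a normal subgroup without elements of order three modulo the centre is central. -/
theorem su_three_two_normal {F : Type*} [Field F] [Fintype F] (hF : Fintype.card F = 4) [CharP F 2]
    (N : Subgroup ↥(Cfsg.SU 3 F 2)) [N.Normal]
    (hN : ∀ s ∈ N, (orderOf (QuotientGroup.mk s : Cfsg.PSU 3 F 2)).Coprime 3) :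
    ∀ s ∈ N, (QuotientGroup.mk s : Cfsg.PSU 3 F 2) = 1 := by
  classical
  haveI : Fact (Nat.Prime 2) := ⟨Nat.prime_two⟩
  haveI : Fact (Nat.Prime 3) := ⟨Nat.prime_three⟩
  have hF' : Fintype.card F = 2 ^ 2 := hF
  obtain ⟨hcard, f, -, -, hker⟩ := H3.UnitaryThreeTwo.exists_hom hF
  obtain ⟨w, hw⟩ := H3.UnitaryThreeTwo.exists_w hF
  have hq8 : ∀ x : QuaternionGroup 2, x ^ 3 = 1 → x = 1 := by decide
  have h20 : (2 : F) = 0 := H3.UnitaryThreeTwo.two_zero hF
  have hw0 : w ≠ 0 := fun e => by rw [e] at hw; simp at hw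
  have hw1 : w ≠ 1 := fun e => by rw [e] at hw; exact one_ne_zero (α := F) (by linear_combination -hw)
  have hw3 : w * (w * w) = 1 := by rw [hw]; linear_combination hw + w * h20
  -- a diagonal and a permutation element of order three
  let d : Fin 3 → F := ![1, w, w * w]
  have hdd : (Matrix.diagonal d).det = 1 := by
    rw [Matrix.det_diagonal, Fin.prod_univ_three]
    simp only [d, Matrix.cons_val_zero, Matrix.cons_val_one, Matrix.cons_val_two, Matrix.tail_cons, Matrix.head_cons,
      one_mul]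
    exact hw3
  let D₀ : SpecialLinearGroup (Fin 3) F := ⟨_, hdd⟩
  have hD : D₀ ∈ Cfsg.SU 3 F 2 := fun u v => Herm.hermForm_diagonal d (fun i => by
    fin_cases i <;> simp [d, pow_succ]
    · linear_combination hw3
    · linear_combination (w * (w * w) + 1) * hw3) u v
  let D : ↥(Cfsg.SU 3 F 2) := ⟨D₀, hD⟩
  let P₁ : SpecialLinearGroup (Fin 3) F := ⟨(finRotate 3).permMatrix F, by
    rw [Matrix.det_permutation, sign_finRotate]; simp⟩
  let P₀ : ↥(Cfsg.SU 3 F 2) := ⟨P₁, perm_mem_SU rfl⟩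
  have hP3 : P₀ ^ 3 = 1 := Subtype.ext (Subtype.ext (by
    show (P₁ ^ 3).1 = _
    rw [Matrix.SpecialLinearGroup.coe_pow, show P₁.1 = (finRotate 3).permMatrix F from rfl]
    show _ = (1 : Matrix (Fin 3) (Fin 3) F)
    rw [pow_succ, pow_two, ← Matrix.permMatrix_mul, ← Matrix.permMatrix_mul,
      show finRotate 3 * (finRotate 3 * finRotate 3) = 1 from by decide, Matrix.permMatrix_one]))
  have hP01 : P₀.1.1 0 1 = 1 := by
    show (finRotate 3).permMatrix F 0 1 = 1
    simp [Equiv.Perm.permMatrix]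
  have hP12 : P₀.1.1 1 2 = 1 := by
    show (finRotate 3).permMatrix F 1 2 = 1
    simp [Equiv.Perm.permMatrix]
  have hD3 : D ^ 3 = 1 := Subtype.ext (Subtype.ext (by
    show (D₀ ^ 3).1 = _
    rw [Matrix.SpecialLinearGroup.coe_pow, show D₀.1 = Matrix.diagonal d from rfl, Matrix.diagonal_pow]
    show Matrix.diagonal _ = 1
    rw [← Matrix.diagonal_one]
    congr 1
    funext i
    fin_cases i <;> simp [d, pow_succ]
    · linear_combination hw3
    · linear_combination (w * (w * w) + 1) * hw3))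
  intro s hs
  set g : Cfsg.PSU 3 F 2 := QuotientGroup.mk s with hg
  have hcomm : ∀ t : ↥(Cfsg.SU 3 F 2), t ^ 3 = 1 → g * QuotientGroup.mk t = QuotientGroup.mk t * g := by
    intro t ht
    set c := s * t * s⁻¹ * t⁻¹ with hc
    have hcN : c ∈ N := by
      rw [hc, mul_assoc s, mul_assoc s]
      exact mul_mem hs (Subgroup.Normal.conj_mem inferInstance _ (inv_mem hs) t)
    have hf : f (QuotientGroup.mk c) = 1 := by
      have h1 : f (QuotientGroup.mk t) = 1 := hq8 _ (by rw [← map_pow, ← QuotientGroup.mk_pow, ht]; exact map_one f)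
      simp only [hc, QuotientGroup.mk_mul, QuotientGroup.mk_inv, map_mul, map_inv, h1, mul_one, inv_one,
        mul_inv_cancel]
    have h3 : orderOf (QuotientGroup.mk c : Cfsg.PSU 3 F 2) = 1 :=
      Nat.eq_one_of_dvd_coprimes (hN c hcN) dvd_rfl (orderOf_dvd_of_pow_eq_one (hker _ hf))
    rw [orderOf_eq_one_iff, hc, QuotientGroup.mk_mul, QuotientGroup.mk_mul, QuotientGroup.mk_mul, QuotientGroup.mk_inv,
      QuotientGroup.mk_inv, mul_inv_eq_one, mul_inv_eq_iff_eq_mul] at h3
    exact h3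
  have hg8 : (g ^ 8) = 1 := by
    have h1 : orderOf g ∣ 8 * 9 := (orderOf_dvd_natCard g).trans hcard.dvd
    exact orderOf_dvd_iff_pow_eq_one.1
      ((Nat.Coprime.dvd_mul_right (Nat.Coprime.pow_right 2 (hN s hs) : (orderOf g).Coprime (3 ^ 2))).1 h1)
  obtain ⟨c8, hc8⟩ := scalar_of_psu_mk_eq_one hF' 2 le_rfl (s := s ^ 8) (by rw [QuotientGroup.mk_pow]; exact hg8)
  have hstrong : ∀ t : ↥(Cfsg.SU 3 F 2), t ^ 3 = 1 → s.1.1 * t.1.1 = t.1.1 * s.1.1 := by
    intro t ht
    have h1 := hcomm t ht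
    rw [hg, ← QuotientGroup.mk_mul, ← QuotientGroup.mk_mul, QuotientGroup.eq] at h1
    set z := (s * t)⁻¹ * (t * s) with hz
    have hts : t * s = s * t * z := by rw [hz, mul_inv_cancel_left]
    have hzc : z ∈ Subgroup.center ↥(Cfsg.SU 3 F 2) := h1
    have hz8 : ∀ k : ℕ, t * s ^ k = s ^ k * t * z ^ k := by
      intro k
      induction k with
      | zero => simp
      | succ k ih =>
        rw [pow_succ, ← mul_assoc, ih, mul_assoc _ (z ^ k), ← Subgroup.mem_center_iff.1 (pow_mem hzc k) s,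
          mul_assoc (s ^ k) t, ← mul_assoc t, hts, pow_succ' z]
        simp only [mul_assoc]
    have h8 : z ^ 8 = 1 := by
      have h2 : t * s ^ 8 = s ^ 8 * t := Subtype.ext (Subtype.ext (by
        show t.1.1 * (s ^ 8).1.1 = (s ^ 8).1.1 * t.1.1
        rw [hc8, Matrix.smul_mul, Matrix.mul_smul, Matrix.one_mul, Matrix.mul_one]))
      have h3 := hz8 8
      rw [h2] at h3
      exact mul_eq_left.1 h3.symm
    have h3z : z ^ 3 = 1 := by
      obtain ⟨c, hc⟩ := scalar_of_psu_mk_eq_one hF' 2 le_rfl (s := z) ((QuotientGroup.eq_one_iff z).2 hzc)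
      have hd := z.1.2
      rw [hc, Matrix.det_smul, Matrix.det_one, mul_one, Fintype.card_fin] at hd
      refine Subtype.ext (Subtype.ext ?_)
      show (z.1 ^ 3).1 = 1
      rw [Matrix.SpecialLinearGroup.coe_pow, hc, smul_pow, one_pow, hd, one_smul]
    have hz1 : z = 1 := by simpa [show Nat.gcd 8 3 = 1 by norm_num] using pow_gcd_eq_one.2 ⟨h8, h3z⟩
    rw [hz1, mul_one] at hts
    exact (congrArg (fun x : ↥(Cfsg.SU 3 F 2) => x.1.1) hts).symm
  have hdiag : ∀ a b, a ≠ b → s.1.1 a b = 0 := by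
    intro a b hab
    have h1 := congrFun (congrFun (hstrong D hD3) a) b
    rw [show D.1.1 = Matrix.diagonal d from rfl, Matrix.mul_diagonal, Matrix.diagonal_mul] at h1
    have hne : d b ≠ d a := by
      have e1 : w * w ≠ 1 := fun e => hw0 (by linear_combination e - hw)
      have e2 : w * w ≠ w := fun e => hw1 ((mul_eq_right₀ hw0).1 e)
      fin_cases a <;> fin_cases b <;>
        first
        | exact absurd rfl hab
        | simp [d, hw1, hw1.symm, e1, e1.symm, e2, e2.symm]
    have h2 : s.1.1 a b * (d b - d a) = 0 := by linear_combination h1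
    exact (mul_eq_zero.1 h2).resolve_right (sub_ne_zero.2 hne)
  -- the diagonal is constant
  have hperm := hstrong P₀ hP3
  have hsd : s.1.1 = Matrix.diagonal fun a => s.1.1 a a := by
    ext a b
    by_cases hab : a = b
    · subst hab; simp
    · simp [hab, hdiag a b hab]
  have hcol : ∀ a b, P₀.1.1 a b ≠ 0 → s.1.1 a a = s.1.1 b b := fun a b hne => by
    have h1 := congrFun (congrFun hperm a) b
    rw [hsd, Matrix.mul_diagonal, Matrix.diagonal_mul] at h1
    exact mul_right_cancel₀ hne (h1.trans (mul_comm _ _))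
  obtain ⟨c, hc⟩ : ∃ c, ∀ a, s.1.1 a a = c := ⟨s.1.1 0 0, fun a => by
    have h01 := hcol 0 1 (by rw [hP01]; exact one_ne_zero)
    have h12 := hcol 1 2 (by rw [hP12]; exact one_ne_zero)
    fin_cases a
    · rfl
    · exact h01.symm
    · exact (h01.trans h12).symm⟩
  refine psu_mk_eq_one_of_scalar (c := c) ?_
  rw [hsd, Matrix.smul_one_eq_diagonal]
  exact congrArg _ (funext hc)

end Cfsg.Lib.Linear.Balance
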