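import Cfsg.Agent.Lib.Linear.Balance.PSUField

/-!
# The balance criterion for a standard field automorphism of odd prime order of `PSU_n(q)`
-/

set_option autoImplicit false

namespace Cfsg.Lib.Linear.Balance

open Matrix
open Cfsg.Lib.Linear.AutPSU
open Cfsg.Lib.Linear.Descent (sc sm sc_val)
open scoped MatrixGroups

set_option quotPrecheck false

variable {n : ℕ} {F : Type*} [Field F] [Fintype F] {q : ℕ}

local notation "G" => ↥(Cfsg.SU n F q)
local notation "P" => Cfsg.PSU n F q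
local notation "GUn" => ↥(Cfsg.GU n F q)

variable (hF : Fintype.card F = q ^ 2) (r : ℕ) [Fact r.Prime] [CharP F r]

include hF r in
/-- The small field of a field automorphism of odd prime order. -/
theorem exists_small {σ : F ≃+* F} {p : ℕ} [Fact p.Prime] (hodd : Odd p) (hσ : orderOf σ = p)
    [Fintype (AutPSL.fixedF σ)] :
    ∃ (q₀ f : ℕ), 2 ≤ q₀ ∧ 1 ≤ f ∧ q = r ^ f ∧
      Small (q := q) σ (AutPSL.fixedF σ).subtype q₀ := by
  have hr : r.Prime := Fact.out
  have hp : p.Prime := Fact.out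
  obtain ⟨k, -, hk⟩ := FiniteField.card F r
  obtain ⟨f, -, rfl⟩ := (Nat.dvd_prime_pow hr).1 (show q ∣ r ^ (k : ℕ) by rw [← hk, hF]; exact dvd_pow_self q two_ne_zero)
  have hf : 1 ≤ f := by
    rcases Nat.eq_zero_or_pos f with rfl | h
    · have := Herm.two_le_q hF; simp at this
    · exact h
  have hd := dvd_of_orderOf hF r hf rfl hp hodd hσ
  have hfp : 1 ≤ f / p := Nat.div_pos (Nat.le_of_dvd hf hd) hp.pos
  refine ⟨r ^ (f / p), f, ?_, hf, rfl, Small.of_fix (p := r) rfl hp hodd hd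
    (fun x => ⟨fun h => ⟨⟨x, h⟩, rfl⟩, fun ⟨y, hy⟩ => hy ▸ y.2⟩) ?_⟩
  · calc 2 ≤ r := hr.two_le
      _ = r ^ 1 := (pow_one r).symm
      _ ≤ _ := Nat.pow_le_pow_right hr.pos hfp
  · have h := AutPSL.card_fixedF_pow σ
    rw [hσ, hF, ← pow_mul, Nat.card_eq_fintype_card] at h
    refine Nat.pow_left_injective hp.ne_zero ?_
    show Fintype.card (AutPSL.fixedF σ) ^ p = (r ^ (2 * (f / p))) ^ p
    rw [h, ← pow_mul, mul_assoc, Nat.div_mul_cancel hd, mul_comm 2 f]

variable {F₀ : Type*} [Field F₀] [Fintype F₀] {σ : F ≃+* F} {i : F₀ →+* F} {q₀ : ℕ}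

/-- `SU_n(q₀)` inside `SU_n(q)`. -/
def suMap (hF : Fintype.card F = q ^ 2) (D : Small (q := q) σ i q₀) : ↥(Cfsg.SU n F₀ q₀) →* G :=
  ((SpecialLinearGroup.map i).comp (Cfsg.SU n F₀ q₀).subtype).codRestrict _ fun s u v =>
    (D.map_mem_GU_iff hF (g := SpecialLinearGroup.toGL s.1)).2 s.2 u v

theorem suMap_val (D : Small (q := q) σ i q₀) (s : ↥(Cfsg.SU n F₀ q₀)) :
    (suMap hF D s).1.1 = s.1.1.map i := rfl

theorem frobU_suMap (D : Small (q := q) σ i q₀) (s : ↥(Cfsg.SU n F₀ q₀)) :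
    frobU σ (suMap hF D s) = suMap hF D s :=
  Subtype.ext (Subtype.ext (Matrix.ext fun a b => (D.hfix _).2 ⟨_, rfl⟩))

theorem exists_suMap (D : Small (q := q) σ i q₀) {t : G} (h : frobU σ t = t) :
    ∃ s, suMap hF D s = t := by
  obtain ⟨M, hM⟩ := D.exists_map (M := t.1.1) (congrArg (fun x : G => x.1.1) h)
  have hdet : M.det = 1 := i.injective (by
    rw [RingHom.map_det, map_one, RingHom.mapMatrix_apply, hM]
    exact t.1.2)
  let s₀ : SpecialLinearGroup (Fin n) F₀ := ⟨M, hdet⟩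
  refine ⟨⟨s₀, fun u v => (D.map_mem_GU_iff hF (g := SpecialLinearGroup.toGL s₀)).1 ?_ u v⟩,
    Subtype.ext (Subtype.ext hM)⟩
  intro u v
  have h1 := t.2 u v
  rw [show Units.coeHom _ (GeneralLinearGroup.map i (SpecialLinearGroup.toGL s₀)) = t.1.1 from hM]
  exact h1

include hF r in
theorem suMap_mk_eq_one (D : Small (q := q) σ i q₀) [CharP F₀ r] (hn : 3 ≤ n) {s : ↥(Cfsg.SU n F₀ q₀)} :
    (QuotientGroup.mk (suMap hF D s) : P) = 1 ↔ (QuotientGroup.mk s : Cfsg.PSU n F₀ q₀) = 1 := by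
  constructor
  · intro h
    obtain ⟨c, hc⟩ := scalar_of_psu_mk_eq_one hF r hn h
    refine psu_mk_eq_one_of_scalar (c := s.1.1 ⟨0, by omega⟩ ⟨0, by omega⟩) (Matrix.ext fun a b => i.injective ?_)
    have h1 := congrFun (congrFun hc a) b
    have h2 := congrFun (congrFun hc ⟨0, by omega⟩) ⟨0, by omega⟩
    simp only [suMap_val, Matrix.map_apply, Matrix.smul_apply, Matrix.one_apply, smul_eq_mul, mul_ite, mul_one,
      mul_zero, ↓reduceIte] at h1 h2 ⊢
    rw [h1, apply_ite i, h2, map_zero]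
  · intro h
    obtain ⟨c, hc⟩ := scalar_of_psu_mk_eq_one D.hcard r hn h
    refine psu_mk_eq_one_of_scalar (c := i c) ?_
    rw [suMap_val, hc]
    ext a b
    simp [Matrix.one_apply, apply_ite i]

include hF r in
/-- An element of order `p` in the image of `SU_n(q₀)`. -/
theorem su_exists_order_p (D : Small (q := q) σ i q₀) (hn : 3 ≤ n) {p : ℕ} [Fact p.Prime]
    (hodd : Odd p) (hdvd : p ∣ Nat.card ↥(MonoidHom.eqLocus (fld σ : MulAut P).toMonoidHom (MonoidHom.id P))) :
    ∃ s, (QuotientGroup.mk (suMap hF D s) : P) ≠ 1 ∧ (QuotientGroup.mk (suMap hF D s) : P) ^ p = 1 := by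
  haveI : Finite P := inferInstance
  by_cases hpn : p ∣ n
  · obtain ⟨s, hs, a, b, hab, h⟩ := exists_perm_SU (p := p) hodd (Nat.le_of_dvd (by omega) hpn) F₀ q₀
    refine ⟨s, fun h1 => ?_, by rw [← QuotientGroup.mk_pow, ← map_pow, hs, map_one, QuotientGroup.mk_one]⟩
    obtain ⟨c, hc⟩ := scalar_of_psu_mk_eq_one hF r hn h1
    have h2 := congrFun (congrFun hc a) b
    simp [suMap_val, hab] at h2
    exact h h2
  · obtain ⟨k, hk⟩ := exists_prime_orderOf_dvd_card' p hdvd
    obtain ⟨t, ht⟩ := QuotientGroup.mk_surjective k.1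
    have h1 : fld σ (QuotientGroup.mk t : P) = QuotientGroup.mk t := by rw [ht]; exact k.2
    rw [fld_mk] at h1
    set z := t⁻¹ * frobU σ t with hz
    have hzc : z ∈ Subgroup.center G := QuotientGroup.eq.1 h1.symm
    obtain ⟨c, hc⟩ := scalar_of_psu_mk_eq_one hF r hn ((QuotientGroup.eq_one_iff z).2 hzc)
    have hzn : z ^ n = 1 := by
      have hd := z.1.2
      rw [hc, Matrix.det_smul, Matrix.det_one, mul_one, Fintype.card_fin] at hd
      refine Subtype.ext (Subtype.ext ?_)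
      show (z.1 ^ n).1 = 1
      rw [Matrix.SpecialLinearGroup.coe_pow, hc, smul_pow, one_pow, hd, one_smul]
    have he : frobU σ (t ^ n) = t ^ n := by
      have e : frobU σ t = t * z := by rw [hz]; group
      rw [map_pow, e, (show Commute t z from Subgroup.mem_center_iff.1 hzc t).mul_pow, hzn, mul_one]
    obtain ⟨s, hs⟩ := exists_suMap hF D he
    have hks : (QuotientGroup.mk (suMap hF D s) : P) = k.1 ^ n := by rw [hs, QuotientGroup.mk_pow, ht]
    refine ⟨s, ?_, ?_⟩
    · rw [hks, ne_eq, ← orderOf_dvd_iff_pow_eq_one, Subgroup.orderOf_coe, hk]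
      exact hpn
    · rw [hks, ← pow_mul, mul_comm, pow_mul, ← Subgroup.coe_pow, ← hk, pow_orderOf_eq_one]
      simp

include hF r in
/-- An automorphism commuting with `fld σ` and fixing `PSU_n(q₀)` is a power of `fld σ`. -/
theorem psu_mem_zpowers (D : Small (q := q) σ i q₀) [CharP F₀ r] (hn : 3 ≤ n) {p : ℕ} [Fact p.Prime]
    (hσ : orderOf σ = p) {f : ℕ} (hf : 1 ≤ f) (hq : q = r ^ f) (h32 : ¬ (n = 3 ∧ q = 2)) {b : MulAut P}
    (hcm : b * fld σ = fld σ * b)
    (hfix : ∀ s, b (QuotientGroup.mk (suMap hF D s)) = QuotientGroup.mk (suMap hF D s)) :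
    ∃ k : ℤ, b = fld σ ^ k := by
  classical
  obtain ⟨h, τ, rfl⟩ := exists_decomp hF (p := r) hn h32 b
  have hτσ : τ * σ = σ * τ := AutPSL.ringEquiv_comm (p := r) (f := 2 * f) (by omega)
    (by rw [hF, hq, ← pow_mul, mul_comm f]) τ σ
  have hcm' : (innd h : MulAut P) * fld σ = fld σ * innd h := by
    refine mul_right_cancel (b := fld τ) ?_
    calc innd h * fld σ * fld τ = innd h * fld τ * fld σ := by
          rw [mul_assoc, mul_assoc, ← map_mul, ← map_mul, hτσ]
      _ = _ := by rw [hcm, mul_assoc]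
  obtain ⟨c, hc⟩ := (commute_fld_iff hF r hn σ h).1 hcm'
  obtain ⟨d, g, hg, hd, hhg⟩ := D.centralizer_decomp hF hn hσ hc
  let G₀ : GUn := ⟨GeneralLinearGroup.map i g, (D.map_mem_GU_iff hF).2 hg⟩
  have hh : (innd h : MulAut P) = innd G₀ := (innd_eq_innd hF r hn).2 ⟨d, hhg⟩
  obtain ⟨τ₀, hτ₀⟩ : ∃ τ₀ : F₀ ≃+* F₀, ∀ y : F₀, i (τ₀ y) = τ (i y) := by
    have hmem : ∀ y, ∃ y', i y' = τ (i y) := fun y => (D.hfix _).1 (by
      show (σ * τ) (i y) = τ (i y)
      rw [← hτσ]
      exact congrArg τ ((D.hfix _).2 ⟨y, rfl⟩))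
    choose m hm using hmem
    let ρ : F₀ →+* F₀ :=
      { toFun := m
        map_one' := i.injective (by simp [hm])
        map_mul' := fun a b => i.injective (by rw [hm, map_mul, map_mul, map_mul, hm, hm])
        map_zero' := i.injective (by simp [hm])
        map_add' := fun a b => i.injective (by rw [hm, map_add, map_add, map_add, hm, hm]) }
    exact ⟨RingEquiv.ofBijective ρ (Finite.injective_iff_bijective.1 (RingHom.injective ρ)), hm⟩
  let b₀ : MulAut (Cfsg.PSU n F₀ q₀) := innd ⟨g, hg⟩ * fld τ₀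
  have hb₀ : b₀ = 1 := aut_ext fun s => by
    rw [MulAut.one_apply, MulAut.mul_apply, fld_mk, innd_mk]
    refine (QuotientGroup.eq (s := Subgroup.center _)).2 ?_
    rw [← QuotientGroup.eq_one_iff, ← suMap_mk_eq_one hF r D hn, map_mul, map_inv]
    rw [QuotientGroup.mk_mul, QuotientGroup.mk_inv, inv_mul_eq_one]
    refine Eq.trans ?_ (hfix s)
    rw [hh, MulAut.mul_apply, fld_mk, innd_mk]
    refine congrArg _ (Subtype.ext (Subtype.ext ?_))
    show (g.1 * s.1.1.map τ₀ * (g⁻¹).1).map i = g.1.map i * (s.1.1.map i).map τ * (GeneralLinearGroup.map i g)⁻¹.1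
    rw [Matrix.map_mul, Matrix.map_mul, ← map_inv,
      show (s.1.1.map τ₀).map i = (s.1.1.map i).map τ from Matrix.ext fun a b => hτ₀ _]
    rfl
  obtain ⟨⟨c₀, hc₀⟩, hτ1⟩ := innd_mul_fld_eq_one D.hcard r hn hb₀
  have hG1 : (innd G₀ : MulAut P) = 1 := innd_scalar (i c₀) (by
    show g.1.map i = _
    rw [hc₀]
    ext a b
    simp [Matrix.one_apply, apply_ite i])
  rw [hh, hG1, one_mul]
  have hτ : ∀ x, σ x = x → τ x = x := fun x hx => by
    obtain ⟨y, rfl⟩ := (D.hfix x).1 hx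
    rw [← hτ₀, hτ1]
    rfl
  haveI : Finite (F ≃+* F) := Finite.of_injective (fun σ => (σ : F → F)) fun a b h => RingEquiv.ext (congrFun h)
  let Z := Subgroup.zpowers (σ : RingAut F)
  let τ' : F →ₐ[FixedPoints.subfield Z F] F := ⟨τ.toRingHom, fun c => by
    show τ (c : F) = c
    exact hτ c (c.2 ⟨σ, Subgroup.mem_zpowers _⟩)⟩
  obtain ⟨⟨_, k, rfl⟩, hk⟩ := (FixedPoints.toAlgHom_bijective Z F).surjective τ'
  refine ⟨k, ?_⟩
  rw [← map_zpow]
  exact congrArg fld (RingEquiv.ext fun x => (AlgHom.congr_fun hk x).symm)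

include hF r in
/-- **Balance for a standard field automorphism of odd prime order.** -/
theorem psu_field_balance (hn : 3 ≤ n) (h32 : ¬ (n = 3 ∧ q = 2)) {p : ℕ} [Fact p.Prime] (hodd : Odd p)
    {σ : F ≃+* F} (hσ : orderOf σ = p) (A : Subgroup (MulAut P)) (hinn : ∀ k : P, MulAut.conj k ∈ A) :
    Cfsg.pPrimeCore p ↥(A ⊓ Subgroup.centralizer {fld σ}) ≠ ⊥ ↔
      Nat.Coprime p (Nat.card ↥(MonoidHom.eqLocus (fld σ : MulAut P).toMonoidHom (MonoidHom.id P))) := by
  classical
  have hp : p.Prime := Fact.out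
  letI : Fintype (AutPSL.fixedF σ) := Fintype.ofFinite _
  haveI : CharP (AutPSL.fixedF σ) r := (AutPSL.fixedF σ).subtype.charP Subtype.val_injective r
  obtain ⟨q₀, f, hq₀, hf, hq, D⟩ := exists_small hF r hodd hσ
  let ψ : ↥(Cfsg.SU n (AutPSL.fixedF σ) q₀) →* P := (QuotientGroup.mk' _).comp (suMap hF D)
  have hψ : ∀ s, ψ s = QuotientGroup.mk (suMap hF D s) := fun s => rfl
  have hfix : ∀ s, fld σ (ψ s) = ψ s := fun s => by rw [hψ, fld_mk, frobU_suMap]
  constructor
  · intro hne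
    by_contra hdiv
    rw [hp.coprime_iff_not_dvd, not_not] at hdiv
    obtain ⟨s₀, hs₀, hs₀p⟩ := su_exists_order_p hF r D hn hodd hdiv
    refine hne (core_eq_bot A hinn (fld σ) (inn_injective hF r hn) ψ hfix ?_ ?_ ?_)
    · intro k hk s
      obtain ⟨t, rfl⟩ := QuotientGroup.mk_surjective k
      rw [fld_mk] at hk
      set e := suMap hF D s
      have hz : t⁻¹ * frobU σ t ∈ Subgroup.center G := QuotientGroup.eq.1 hk.symm
      obtain ⟨s', hs'⟩ := exists_suMap hF D (t := t * e * t⁻¹) (by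
        rw [map_mul, map_mul, map_inv, frobU_suMap]
        have := Subgroup.mem_center_iff.1 hz e
        calc frobU σ t * e * (frobU σ t)⁻¹ = t * (t⁻¹ * frobU σ t * e) * (frobU σ t)⁻¹ := by group
          _ = t * (e * (t⁻¹ * frobU σ t)) * (frobU σ t)⁻¹ := by rw [this]
          _ = _ := by group)
      exact ⟨s', by rw [hψ, hψ, hs']; rfl⟩
    · intro N hN hNp s hs
      haveI := hN
      by_cases h32' : n = 3 ∧ q₀ = 2
      · obtain ⟨rfl, rfl⟩ := h32'
        have hp3 : p = 3 := by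
          obtain ⟨hc72, -⟩ := H3.UnitaryThreeTwo.exists_hom (F := AutPSL.fixedF σ) D.hcard
          set y : Cfsg.PSU 3 (AutPSL.fixedF σ) 2 := QuotientGroup.mk s₀
          have hy : y ^ p = 1 := by
            rw [← QuotientGroup.mk_pow]
            refine (suMap_mk_eq_one hF r D hn).1 ?_
            rw [map_pow, QuotientGroup.mk_pow]
            exact hs₀p
          have h1 : orderOf y = p :=
            orderOf_eq_prime hy fun h => hs₀ ((suMap_mk_eq_one hF r D hn).2 h)
          have h2 : p ∣ 2 ^ 3 * 3 ^ 2 := by rw [← h1]; exact (orderOf_dvd_natCard y).trans hc72.dvd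
          rcases hp.dvd_mul.1 h2 with h | h
          · obtain rfl := (Nat.prime_dvd_prime_iff_eq hp Nat.prime_two).1 (hp.dvd_of_dvd_pow h)
            exact absurd hodd (by decide)
          · exact (Nat.prime_dvd_prime_iff_eq hp Nat.prime_three).1 (hp.dvd_of_dvd_pow h)
        have hchar2 : Nonempty (CharP (AutPSL.fixedF σ) 2) := by
          obtain ⟨k, -, hk⟩ := FiniteField.card (AutPSL.fixedF σ) r
          have h4 : r ∣ 2 ^ 2 := by rw [← D.hcard, hk]; exact dvd_pow_self r k.pos.ne'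
          obtain rfl := (Nat.prime_dvd_prime_iff_eq (Fact.out : r.Prime) Nat.prime_two).1
            ((Fact.out : r.Prime).dvd_of_dvd_pow h4)
          exact ⟨inferInstance⟩
        subst hp3
        refine (suMap_mk_eq_one hF r D hn).2 (@su_three_two_normal _ _ _ D.hcard hchar2.some N hN (fun t ht => ?_) s hs)
        refine Nat.Coprime.coprime_dvd_left ?_ (hNp t ht)
        refine orderOf_dvd_of_pow_eq_one ?_
        rw [← QuotientGroup.mk_pow]
        refine (suMap_mk_eq_one hF r D hn).1 ?_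
        rw [map_pow, QuotientGroup.mk_pow]
        exact pow_orderOf_eq_one (ψ t)
      · haveI := Cfsg.Agent.S0283.result D.hcard n hn h32'
        rcases (Subgroup.Normal.map hN (QuotientGroup.mk' (Subgroup.center ↥(Cfsg.SU n (AutPSL.fixedF σ) q₀)))
          (QuotientGroup.mk'_surjective _)).eq_bot_or_eq_top with h | h
        · exact (suMap_mk_eq_one hF r D hn).2 ((Subgroup.map_eq_bot_iff _).1 h hs |> (QuotientGroup.eq_one_iff s).2 ∘ by
            rw [QuotientGroup.ker_mk']; exact id)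
        · exfalso
          obtain ⟨t, ht, hts⟩ : (QuotientGroup.mk s₀ : Cfsg.PSU n (AutPSL.fixedF σ) q₀) ∈
              N.map (QuotientGroup.mk' (Subgroup.center ↥(Cfsg.SU n (AutPSL.fixedF σ) q₀))) := h ▸ Subgroup.mem_top _
          have he : ψ t = ψ s₀ := by
            rw [hψ, hψ, QuotientGroup.eq, ← QuotientGroup.eq_one_iff, ← map_inv, ← map_mul,
              suMap_mk_eq_one hF r D hn, QuotientGroup.eq_one_iff, ← QuotientGroup.eq]
            exact hts
          have h1 := hNp t ht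
          rw [he] at h1
          exact hs₀ (orderOf_eq_one_iff.1
            (Nat.eq_one_of_dvd_coprimes h1 dvd_rfl (orderOf_dvd_of_pow_eq_one hs₀p)))
    · intro b _ hcm hb hbfix
      obtain ⟨k, rfl⟩ := psu_mem_zpowers hF r D hn hσ hf hq h32 hcm hbfix
      refine orderOf_eq_one_iff.1 (Nat.eq_one_of_dvd_coprimes hb dvd_rfl (orderOf_dvd_of_pow_eq_one ?_))
      rw [← zpow_natCast, ← _root_.zpow_mul, mul_comm, _root_.zpow_mul, zpow_natCast, ← map_pow, ← hσ,
        pow_orderOf_eq_one, map_one, _root_.one_zpow]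
  · intro hcop
    obtain ⟨v, -, hv0, hvv⟩ := Herm.exists_iso_ne_zero (Herm.frob_ne_id D.hcard) (Herm.frob_frob D.hcard)
      (Herm.hB_isSymm D.hcard n) ⊤ (by rw [finrank_top, Module.finrank_fin_fun]; omega)
    obtain ⟨k, hk0, hk⟩ := exists_skew D.hcard
    set t := tU D.hcard v k
    refine core_ne_bot A hinn _ (inn_injective hF r hn) hcop (k := ψ t) (hfix t) fun h => ?_
    refine tU_ne_one D.hcard (v := v) ⟨hv0, hvv⟩ hk0 hk (mk_inj_of_pow D.hcard r (by omega) (k := 1) (l := 0)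
      (by rw [pow_one]; exact tU_pow_char D.hcard r hvv hk) (one_pow _) ?_)
    exact ((suMap_mk_eq_one hF r D hn).1 h).trans (QuotientGroup.mk_one _).symm

end Cfsg.Lib.Linear.Balance
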