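import Cfsg.Agent.Lib.Linear.Balance.PSLGraph
import Cfsg.Agent.Lib.Linear.Balance.PSUField
import Cfsg.Agent.Lib.Linear.AutPSU.GraphProxy

/-!
# Balance for involutory graph automorphisms of `PSU_n(q)`, `q` odd

Such an automorphism has a model: a form `N` over the field of order `q`. The isometries of `N` give fixed points; as a
group they have no odd normal subgroup modulo scalars, and an automorphism of odd order centralising them is trivial.
-/

set_option autoImplicit false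

namespace Cfsg.Lib.Linear.Balance

open Matrix
open Cfsg.Lib.Linear.AutPSU
open Cfsg.Lib.Linear.AutPSU.Proxy (Ctx IsModel)
open Cfsg.Lib.Linear.Descent (sc sm sc_val sc_comm sm_val)
open scoped MatrixGroups

set_option quotPrecheck false

variable {n : ℕ} {F : Type*} [Field F] [Fintype F] {q : ℕ} {F₀ : Type*} [Field F₀]

local notation "G" => ↥(Cfsg.SU n F q)
local notation "P" => Cfsg.PSU n F q
local notation "GUn" => ↥(Cfsg.GU n F q)
local notation "GLn" => GL (Fin n) F
local notation "SL₀" => Matrix.SpecialLinearGroup (Fin n) F₀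
local notation "P₀" => Matrix.ProjectiveSpecialLinearGroup (Fin n) F₀

/-- A special unitary matrix as an invertible matrix. -/
def gl : G →* GLn := SpecialLinearGroup.toGL.comp (Cfsg.SU n F q).subtype

omit [Fintype F] in
theorem gl_val (t : G) : (gl t).val = t.1.1 := rfl

omit [Fintype F] in
theorem gl_injective : Function.Injective (gl : G →* GLn) := fun _ _ h =>
  Subtype.ext (Subtype.ext (congrArg Units.val h))

omit [Fintype F] in
theorem gl_frobU (σ : F ≃+* F) (t : G) : gl (frobU σ t) = sm σ (gl t) := Units.ext rfl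

omit [Fintype F] in
theorem gl_cnj (g : GUn) (t : G) : gl (cnj g t) = g.1 * gl t * g.1⁻¹ := Units.ext rfl

variable (hF : Fintype.card F = q ^ 2) (r : ℕ) [Fact r.Prime] [CharP F r]

include hF r in
theorem psu_mk_eq_mk (hn : 3 ≤ n) {s t : G} (h : (QuotientGroup.mk s : P) = QuotientGroup.mk t) :
    ∃ c : Fˣ, gl s = sc c * gl t := by
  have h1 : (QuotientGroup.mk (t⁻¹ * s) : P) = 1 := by
    rw [QuotientGroup.mk_mul, QuotientGroup.mk_inv, h, inv_mul_cancel]
  obtain ⟨c, hc⟩ := scalar_of_psu_mk_eq_one hF r hn h1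
  have hc0 : c ≠ 0 := fun h0 => by
    have hd := (t⁻¹ * s).1.2
    rw [hc, h0, zero_smul] at hd
    haveI : Nonempty (Fin n) := ⟨⟨0, by omega⟩⟩
    rw [Matrix.det_zero] at hd
    exact zero_ne_one hd
  refine ⟨Units.mk0 c hc0, ?_⟩
  rw [sc_comm, ← inv_mul_eq_iff_eq_mul, ← map_inv, ← map_mul]
  exact Units.ext (by rw [gl_val, hc, sc_val, Units.val_mk0])

/-- A ring automorphism fixing the fixed field of an involution `σ` is `1` or `σ`. -/
theorem eq_one_or_eq {K : Type*} [Field K] {σ ρ : K ≃+* K} (hinv : ∀ x, σ (σ x) = x)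
    (h : ∀ x, σ x = x → ρ x = x) : ρ = 1 ∨ ρ = σ := by
  have key : ∀ x, ρ x = x ∨ ρ x = σ x := fun x => by
    have h1 : ρ (x + σ x) = x + σ x := h _ (by rw [map_add, hinv, add_comm])
    have h2 : ρ (x * σ x) = x * σ x := h _ (by rw [map_mul, hinv, mul_comm])
    rw [map_add] at h1
    rw [map_mul] at h2
    have h3 : (ρ x - x) * (ρ x - σ x) = 0 := by linear_combination (ρ x) * h1 - h2
    rcases mul_eq_zero.1 h3 with e | e
    · exact Or.inl (sub_eq_zero.1 e)
    · exact Or.inr (sub_eq_zero.1 e)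
  by_contra hne
  push Not at hne
  obtain ⟨a, ha⟩ : ∃ a, ρ a ≠ a := by
    by_contra! h'
    exact hne.1 (RingEquiv.ext h')
  obtain ⟨b, hb⟩ : ∃ b, ρ b ≠ σ b := by
    by_contra! h'
    exact hne.2 (RingEquiv.ext h')
  have hab := key (a + b)
  rw [map_add, map_add, (key a).resolve_left ha, (key b).resolve_right hb] at hab
  rcases hab with e | e
  · exact ha (((key a).resolve_left ha).trans (add_right_cancel e))
  · exact hb (((key b).resolve_right hb).trans (add_left_cancel e))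

omit [Fintype F] in
theorem sc_conj (c : Fˣ) (A X : GL (Fin n) F) : sc c * A * X * (sc c * A)⁻¹ = A * X * A⁻¹ := by
  rw [sc_comm c A, mul_assoc A (sc c) X, sc_comm c X]
  group

omit [Fintype F] in
theorem sc_conj' (c : Fˣ) (A X : GL (Fin n) F) : (sc c * A)⁻¹ * X * (sc c * A) = A⁻¹ * X * A := by
  rw [mul_assoc, ← mul_assoc X, ← sc_comm c X]
  group

/-- A matrix of the small field seen through the change of basis `A`. -/
def emb (i : F₀ →+* F) (A : GLn) : GL (Fin n) F₀ →* GLn :=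
  (MulAut.conj A).toMonoidHom.comp (GeneralLinearGroup.map i)

omit [Fintype F] in
theorem emb_apply (i : F₀ →+* F) (A : GLn) (S : GL (Fin n) F₀) :
    emb i A S = A * GeneralLinearGroup.map i S * A⁻¹ := rfl

variable {σ : F ≃+* F} {i : F₀ →+* F} {δ : F} {g : ↥(Cfsg.GU n F q)} {A : GL (Fin n) F} {μ : F}
  {N : GL (Fin n) F₀}

theorem emb_fixed (X : Ctx σ i δ q) (M : IsModel σ i δ g A μ N) (S : GL (Fin n) F₀) :
    g.1 * sm σ (emb i A S) * g.1⁻¹ = emb i A S := by
  obtain ⟨⟨l, hl0, hl⟩, -⟩ := M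
  have hl' : g.1 * sm σ A = sc (Units.mk0 l hl0) * A := Units.ext (by
    rw [Units.val_mul, Units.val_mul, sm_val, sc_val, Units.val_mk0, hl, smul_mul_assoc, one_mul])
  have hS : sm σ (GeneralLinearGroup.map i S) = GeneralLinearGroup.map i S := Units.ext (X.fix_map S.val)
  rw [emb_apply, map_mul, map_mul, map_inv, hS]
  calc g.1 * (sm σ A * GeneralLinearGroup.map i S * (sm σ A)⁻¹) * g.1⁻¹
      = (g.1 * sm σ A) * GeneralLinearGroup.map i S * (g.1 * sm σ A)⁻¹ := by group
    _ = _ := by rw [hl', sc_conj]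

include hF in
theorem emb_mem_GU_iff (X : Ctx σ i δ q) (M : IsModel σ i δ g A μ N) (S : GL (Fin n) F₀) :
    emb i A S ∈ Cfsg.GU n F q ↔ S.val.transpose * N.val * S.val = N.val := by
  obtain ⟨-, hA, hμ, -⟩ := M
  set E := emb i A S with hE
  have e : E.val * A.val = A.val * S.val.map i := by
    show (E * A).val = (A * GeneralLinearGroup.map i S).val
    rw [hE, emb_apply, inv_mul_cancel_right]
  have e2 : (E.val.map σ) * A.val.map σ = A.val.map σ * S.val.map i := by
    rw [← Matrix.map_mul, e, Matrix.map_mul, X.fix_map]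
  have key : (A.val.map σ).transpose * ((E.val.map σ).transpose * E.val) * A.val =
      μ • (S.val.transpose * N.val * S.val).map i := by
    calc _ = ((E.val.map σ) * A.val.map σ).transpose * (E.val * A.val) := by
          rw [Matrix.transpose_mul]; simp only [mul_assoc]
      _ = (S.val.map i).transpose * ((A.val.map σ).transpose * A.val) * S.val.map i := by
          rw [e, e2, Matrix.transpose_mul]; simp only [mul_assoc]
      _ = _ := by
          rw [hA, mul_smul_comm, smul_mul_assoc, Matrix.map_mul, Matrix.map_mul, Matrix.transpose_map]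
  rw [X.mem_GU hF]
  constructor
  · intro h
    rw [h, mul_one, hA] at key
    exact Proxy.mapi_inj i (smul_right_injective _ hμ key).symm
  · intro h
    rw [h, ← hA] at key
    have hu : IsUnit (A.val.map σ).transpose := (Matrix.isUnit_iff_isUnit_det _).2 (by
      rw [Matrix.det_transpose]; exact (GeneralLinearGroup.det (sm σ A)).isUnit)
    refine hu.mul_left_cancel (A.isUnit.mul_right_cancel ?_)
    rw [key, mul_one]

omit [Fintype F] in
theorem SI_one_iff {s : SL₀} : s ∈ SI N 1 ↔ s.1.transpose * N.val * s.1 = N.val := by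
  rw [mem_SI, show s.1.map (⇑(1 : F₀ ≃+* F₀)) = s.1 from Matrix.ext fun _ _ => rfl]

omit [Fintype F] in
theorem emb_det (A : GL (Fin n) F) (S : GL (Fin n) F₀) : (emb i A S).val.det = i S.val.det := by
  show (A.val * S.val.map i * (A⁻¹).val).det = _
  rw [Matrix.det_mul, Matrix.det_mul, mul_right_comm, ← Matrix.det_mul, Units.mul_inv, Matrix.det_one, one_mul,
    RingHom.map_det]
  rfl

/-- The isometries of the model inside `SU`. -/
def siSU (X : Ctx σ i δ q) (M : IsModel σ i δ g A μ N) : SI N 1 →* G where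
  toFun s := ⟨⟨(emb i A (SpecialLinearGroup.toGL s.1)).val, by
      rw [emb_det, show (SpecialLinearGroup.toGL s.1).val.det = 1 from s.1.2, map_one]⟩, fun u v =>
    (emb_mem_GU_iff hF X M (SpecialLinearGroup.toGL s.1)).2 (SI_one_iff.1 s.2) u v⟩
  map_one' := Subtype.ext (Subtype.ext (by
    show (emb i A (SpecialLinearGroup.toGL (1 : SI N 1).1)).val = _
    rw [OneMemClass.coe_one, map_one, map_one]; rfl))
  map_mul' s t := Subtype.ext (Subtype.ext (by
    show (emb i A (SpecialLinearGroup.toGL (s * t : SI N 1).1)).val = _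
    rw [Subgroup.coe_mul, map_mul, map_mul]; rfl))

theorem gl_siSU (X : Ctx σ i δ q) (M : IsModel σ i δ g A μ N) (s : SI N 1) :
    gl (siSU hF X M s) = emb i A (SpecialLinearGroup.toGL s.1) := Units.ext rfl

theorem siSU_fixed (X : Ctx σ i δ q) (M : IsModel σ i δ g A μ N) (s : SI N 1) :
    cnj g (frobU σ (siSU hF X M s)) = siSU hF X M s := gl_injective (by
  rw [gl_cnj, gl_frobU, gl_siSU, emb_fixed X M])

theorem exists_siSU (X : Ctx σ i δ q) (M : IsModel σ i δ g A μ N) {t : G} (ht : cnj g (frobU σ t) = t) :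
    ∃ s, siSU hF X M s = t := by
  set T := gl t with hT
  have h1 : g.1 * sm σ T * g.1⁻¹ = T := by
    have := congrArg gl ht
    rwa [gl_cnj, gl_frobU] at this
  obtain ⟨⟨l, hl0, hl⟩, -⟩ := id M
  have hl' : g.1 * sm σ A = sc (Units.mk0 l hl0) * A := Units.ext (by
    rw [Units.val_mul, Units.val_mul, sm_val, sc_val, Units.val_mk0, hl, smul_mul_assoc, one_mul])
  have hfix : sm σ (A⁻¹ * T * A) = A⁻¹ * T * A := by
    rw [map_mul, map_mul, map_inv]
    calc (sm σ A)⁻¹ * sm σ T * sm σ A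
        = (g.1 * sm σ A)⁻¹ * (g.1 * sm σ T * g.1⁻¹) * (g.1 * sm σ A) := by group
      _ = _ := by rw [h1, hl', sc_conj']
  obtain ⟨S, hS⟩ := AutPSL.exists_map_eq i X.hfix hfix
  have hE : emb i A S = T := by rw [emb_apply, hS]; group
  have hdet : S.val.det = 1 := i.injective (by
    rw [map_one, ← emb_det A, hE]
    exact t.1.2)
  have hmem : S.val.transpose * N.val * S.val = N.val :=
    (emb_mem_GU_iff hF X M S).1 (hE ▸ fun u v => t.2 u v)
  let s₀ : SL₀ := ⟨S.val, hdet⟩
  refine ⟨⟨s₀, SI_one_iff.2 hmem⟩, gl_injective ?_⟩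
  rw [gl_siSU, ← hT, ← hE]
  exact congrArg _ (Units.ext rfl)

omit [Fintype F] in
theorem psl_mk_eq_one_iff (hn : 1 ≤ n) (s : SL₀) :
    (QuotientGroup.mk s : P₀) = 1 ↔ ∃ c : F, s.1.map i = c • 1 := by
  rw [QuotientGroup.eq_one_iff, Matrix.SpecialLinearGroup.mem_center_iff]
  constructor
  · rintro ⟨c, -, hc⟩
    refine ⟨i c, ?_⟩
    rw [← hc, Matrix.scalar_apply, ← Matrix.smul_one_eq_diagonal, Proxy.mapi_smul,
      Matrix.map_one _ (map_zero i) (map_one i)]
  · rintro ⟨c, hc⟩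
    set b := s.1 ⟨0, by omega⟩ ⟨0, by omega⟩
    have hb : i b = c := by simpa using congrFun (congrFun hc ⟨0, by omega⟩) ⟨0, by omega⟩
    have hs : s.1 = b • 1 := Proxy.mapi_inj i (by
      rw [hc, Proxy.mapi_smul, hb, Matrix.map_one _ (map_zero i) (map_one i)])
    refine ⟨b, ?_, by rw [hs, Matrix.scalar_apply, Matrix.smul_one_eq_diagonal]⟩
    have hd := s.2
    rw [hs, Matrix.det_smul, Matrix.det_one, mul_one] at hd
    simpa using hd

include hF r in
theorem siSU_mk_eq_one_iff (hn : 3 ≤ n) (X : Ctx σ i δ q) (M : IsModel σ i δ g A μ N) (s : SI N 1) :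
    (QuotientGroup.mk (siSU hF X M s) : P) = 1 ↔ siHom N 1 s = 1 := by
  rw [siHom_apply, psl_mk_eq_one_iff (i := i) (by omega)]
  have e : (siSU hF X M s).1.1 * A.val = A.val * s.1.1.map i := by
    show (emb i A (SpecialLinearGroup.toGL s.1) * A).val = (A * GeneralLinearGroup.map i (SpecialLinearGroup.toGL s.1)).val
    rw [emb_apply, inv_mul_cancel_right]
  constructor
  · intro h
    obtain ⟨c, hc⟩ := scalar_of_psu_mk_eq_one hF r hn h
    refine ⟨c, A.isUnit.mul_left_cancel ?_⟩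
    rw [← e, hc, smul_mul_assoc, one_mul, mul_smul_comm, mul_one]
  · rintro ⟨c, hc⟩
    refine psu_mk_eq_one_of_scalar (c := c) (A.isUnit.mul_right_cancel ?_)
    rw [e, hc, smul_mul_assoc, one_mul, mul_smul_comm, mul_one]

include hF r in
/-- An automorphism of odd order centralising a graph automorphism and the isometries of its model is trivial. -/
theorem psu_graph_cent [Fintype F₀] (hn : 3 ≤ n) (h32 : ¬ (n = 3 ∧ q = 2)) (X : Ctx σ i δ q)
    (M : IsModel σ i δ g A μ N) (hord : (innd g * fld σ : MulAut P) * (innd g * fld σ) = 1)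
    (hcent₀ : ∀ (T : GL (Fin n) F₀) (τ : F₀ ≃+* F₀),
      (∀ s, (AutPSL.innd T * AutPSL.fld τ : MulAut P₀) (siHom N 1 s) = siHom N 1 s) →
      τ * τ = 1 ∧ (T * sm τ T).val ∈ Set.range (Matrix.scalar (Fin n) : F₀ → Matrix (Fin n) (Fin n) F₀))
    {b : MulAut P} (hcm : b * (innd g * fld σ) = innd g * fld σ * b) (hb : (orderOf b).Coprime 2)
    (hfix : ∀ s, b (QuotientGroup.mk (siSU hF X M s)) = QuotientGroup.mk (siSU hF X M s)) : b = 1 := by
  haveI : Nonempty (Fin n) := ⟨⟨0, by omega⟩⟩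
  haveI : Fact (Nat.Prime 2) := ⟨Nat.prime_two⟩
  have hσσ := X.invol
  obtain ⟨h, τ, rfl⟩ := exists_decomp hF (p := r) hn h32 b
  obtain ⟨⟨l, hl0, hl⟩, -⟩ := id M
  have hl' : g.1 * sm σ A = sc (Units.mk0 l hl0) * A := Units.ext (by
    rw [Units.val_mul, Units.val_mul, sm_val, sc_val, Units.val_mk0, hl, smul_mul_assoc, one_mul])
  have hτσ : τ * σ = σ * τ := RingEquiv.ext fun y => by
    show τ (σ y) = σ (τ y)
    rw [X.hfrob, X.hfrob, map_pow]
  have hcm' : (innd (h * smGU τ g) : MulAut P) = innd (g * smGU σ h) := by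
    refine mul_right_cancel (b := fld (τ * σ)) ?_
    calc innd (h * smGU τ g) * fld (τ * σ) = innd h * fld τ * (innd g * fld σ) := by
          rw [map_mul innd, map_mul fld, mul_assoc (innd h) (fld τ), ← mul_assoc (fld τ), fld_mul_innd]
          simp only [mul_assoc]
      _ = innd g * fld σ * (innd h * fld τ) := hcm
      _ = _ := by
          rw [hτσ, map_mul innd, map_mul fld, mul_assoc (innd g) (fld σ), ← mul_assoc (fld σ), fld_mul_innd]
          simp only [mul_assoc]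
  obtain ⟨c, hc⟩ := (innd_eq_innd hF r hn).1 hcm'
  have hc0 : c ≠ 0 := fun h0 => AutPSL.GForms.val_ne_zero (show 0 < n by omega) (h.1 * (smGU τ g).1)
    (show (h * smGU τ g).1.val = 0 by rw [hc, h0, zero_smul])
  have hc' : h.1 * sm τ g.1 = sc (Units.mk0 c hc0) * (g.1 * sm σ h.1) := Units.ext (by
    rw [Units.val_mul (sc _), sc_val, Units.val_mk0, smul_mul_assoc, one_mul]
    exact hc)
  set T := A⁻¹ * h.1 * sm τ A with hTdef
  obtain ⟨u, hu⟩ : ∃ u : Fˣ, sm σ T = sc u * T := by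
    set lu := Units.mk0 l hl0
    set cu := Units.mk0 c hc0
    set w := Units.map τ.toRingHom.toMonoidHom lu
    have hsm : sm σ (sm τ A) = sm τ (sm σ A) := by rw [← Descent.sm_mul, ← Descent.sm_mul, hτσ]
    have e1 : sm τ g.1 * sm τ (sm σ A) = sc w * sm τ A := by
      rw [← map_mul, hl', map_mul, Descent.sm_sc]
    have e2 : g.1 * sm σ h.1 = sc cu⁻¹ * (h.1 * sm τ g.1) := by
      rw [hc', ← mul_assoc, ← map_mul, inv_mul_cancel, map_one, one_mul]
    refine ⟨lu⁻¹ * cu⁻¹ * w, ?_⟩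
    rw [hTdef, map_mul, map_mul, map_inv, hsm]
    calc (sm σ A)⁻¹ * sm σ h.1 * sm τ (sm σ A)
        = (g.1 * sm σ A)⁻¹ * (g.1 * sm σ h.1) * sm τ (sm σ A) := by group
      _ = A⁻¹ * (sc lu)⁻¹ * (sc cu⁻¹ * (h.1 * sm τ g.1)) * sm τ (sm σ A) := by rw [hl', e2, _root_.mul_inv_rev]
      _ = A⁻¹ * sc (lu⁻¹ * cu⁻¹) * h.1 * (sm τ g.1 * sm τ (sm σ A)) := by
          rw [map_mul sc, map_inv sc lu]; simp only [mul_assoc]
      _ = A⁻¹ * sc (lu⁻¹ * cu⁻¹) * (h.1 * sc w) * sm τ A := by rw [e1]; simp only [mul_assoc]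
      _ = sc (lu⁻¹ * cu⁻¹) * A⁻¹ * (sc w * h.1) * sm τ A := by rw [← sc_comm, ← sc_comm w]
      _ = sc (lu⁻¹ * cu⁻¹) * (A⁻¹ * sc w) * h.1 * sm τ A := by simp only [mul_assoc]
      _ = _ := by rw [← sc_comm, map_mul sc (lu⁻¹ * cu⁻¹)]; simp only [mul_assoc]
  obtain ⟨d, B, hB, hTd⟩ := Cfsg.Lib.Linear.Descent.exists_fixed X.hord T hu
  obtain ⟨T₀, hT₀⟩ := AutPSL.exists_map_eq i X.hfix hB
  obtain ⟨τ₀, hτ₀⟩ : ∃ τ₀ : F₀ ≃+* F₀, ∀ y, i (τ₀ y) = τ (i y) := by
    have hmem : ∀ y, ∃ y', i y' = τ (i y) := fun y => (X.hfix _).1 (by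
      show (σ * τ) (i y) = τ (i y)
      rw [← hτσ]
      exact congrArg τ ((X.hfix _).2 ⟨y, rfl⟩))
    choose m hm using hmem
    let ρ : F₀ →+* F₀ :=
      { toFun := m
        map_one' := i.injective (by simp [hm])
        map_mul' := fun a b => i.injective (by rw [hm, map_mul, map_mul, map_mul, hm, hm])
        map_zero' := i.injective (by simp [hm])
        map_add' := fun a b => i.injective (by rw [hm, map_add, map_add, map_add, hm, hm]) }
    exact ⟨RingEquiv.ofBijective ρ (Finite.injective_iff_bijective.1 (RingHom.injective ρ)), hm⟩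
  have hmapτ : ∀ S : GL (Fin n) F₀,
      sm τ (GeneralLinearGroup.map i S) = GeneralLinearGroup.map i (sm τ₀ S) := fun S =>
    Units.ext (Matrix.ext fun a b => (hτ₀ _).symm)
  have hh : h.1 * sm τ A = sc d * (A * GeneralLinearGroup.map i T₀) := by
    rw [hT₀, ← mul_assoc, sc_comm, mul_assoc, ← hTd, hTdef]; group
  have hfix₀ : ∀ s, (AutPSL.innd T₀ * AutPSL.fld τ₀ :
      MulAut (P₀)) (siHom N 1 s) = siHom N 1 s := by
    intro s
    have h1 := hfix s
    rw [MulAut.mul_apply, fld_mk, innd_mk] at h1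
    obtain ⟨v, hv⟩ := psu_mk_eq_mk hF r hn h1
    rw [gl_cnj, gl_frobU, gl_siSU, emb_apply, map_mul, map_mul, map_inv, hmapτ] at hv
    set S₀ := SpecialLinearGroup.toGL s.1
    have h2 : A * GeneralLinearGroup.map i (T₀ * sm τ₀ S₀ * T₀⁻¹) * A⁻¹ =
        sc v * (A * GeneralLinearGroup.map i S₀ * A⁻¹) := by
      rw [← hv]
      calc A * GeneralLinearGroup.map i (T₀ * sm τ₀ S₀ * T₀⁻¹) * A⁻¹
          = (A * GeneralLinearGroup.map i T₀) * GeneralLinearGroup.map i (sm τ₀ S₀) *
              (A * GeneralLinearGroup.map i T₀)⁻¹ := by rw [map_mul, map_mul, map_inv]; group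
        _ = (sc d * (A * GeneralLinearGroup.map i T₀)) * GeneralLinearGroup.map i (sm τ₀ S₀) *
              (sc d * (A * GeneralLinearGroup.map i T₀))⁻¹ := (sc_conj d _ _).symm
        _ = _ := by rw [← hh]; group
    have h3 : GeneralLinearGroup.map i (T₀ * sm τ₀ S₀ * T₀⁻¹ * S₀⁻¹) = sc v := by
      have h4 : GeneralLinearGroup.map i (T₀ * sm τ₀ S₀ * T₀⁻¹) = A⁻¹ * sc v * A * GeneralLinearGroup.map i S₀ := by
        calc _ = A⁻¹ * (A * GeneralLinearGroup.map i (T₀ * sm τ₀ S₀ * T₀⁻¹) * A⁻¹) * A := by group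
          _ = _ := by rw [h2]; group
      rw [map_mul, h4, map_inv, mul_inv_cancel_right, mul_assoc, sc_comm, inv_mul_cancel_left]
    rw [MulAut.mul_apply, siHom_apply, AutPSL.fld_mk, AutPSL.innd_mk, ← mul_inv_eq_one, ← QuotientGroup.mk_inv,
      ← QuotientGroup.mk_mul]
    refine (psl_mk_eq_one_iff (i := i) (by omega) _).2 ⟨v, ?_⟩
    rw [← sc_val, ← h3]
    rfl
  obtain ⟨hτ2, c₀, hc₀⟩ := hcent₀ T₀ τ₀ hfix₀
  set ρ := τ * τ with hρ
  have hρfix : ∀ y, σ y = y → ρ y = y := fun y hy => by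
    obtain ⟨z, rfl⟩ := (X.hfix y).1 hy
    show τ (τ (i z)) = i z
    rw [← hτ₀, ← hτ₀]
    exact congrArg i (DFunLike.congr_fun hτ2 z)
  have hc₀0 : c₀ ≠ 0 := fun h0 => AutPSL.GForms.val_ne_zero (show 0 < n by omega) (T₀ * sm τ₀ T₀)
    (by rw [← hc₀, h0, map_zero])
  have hTT : T₀ * sm τ₀ T₀ = sc (Units.mk0 c₀ hc₀0) := Units.ext (by
    rw [← hc₀, sc_val, Units.val_mk0, Matrix.scalar_apply, Matrix.smul_one_eq_diagonal])
  obtain ⟨e, he⟩ : ∃ e : Fˣ, h.1 * sm τ h.1 * sm ρ A = sc e * A := by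
    refine ⟨Units.map τ.toRingHom.toMonoidHom d * d * Units.map i.toMonoidHom (Units.mk0 c₀ hc₀0), ?_⟩
    have hmsc : GeneralLinearGroup.map i (sc (Units.mk0 c₀ hc₀0)) =
        (sc (Units.map i.toMonoidHom (Units.mk0 c₀ hc₀0)) : GL (Fin n) F) :=
      Units.ext (Matrix.ext fun a b => by simp [Matrix.diagonal_apply, apply_ite i])
    calc h.1 * sm τ h.1 * sm ρ A = h.1 * sm τ (h.1 * sm τ A) := by
          rw [hρ, Descent.sm_mul, map_mul, mul_assoc]
      _ = h.1 * (sc (Units.map τ.toRingHom.toMonoidHom d) * (sm τ A * GeneralLinearGroup.map i (sm τ₀ T₀))) := by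
          rw [hh, map_mul, map_mul, Descent.sm_sc, hmapτ]
      _ = sc (Units.map τ.toRingHom.toMonoidHom d) * (h.1 * sm τ A) * GeneralLinearGroup.map i (sm τ₀ T₀) := by
          rw [← mul_assoc h.1, ← sc_comm]; simp only [mul_assoc]
      _ = sc (Units.map τ.toRingHom.toMonoidHom d) * sc d * A * GeneralLinearGroup.map i (T₀ * sm τ₀ T₀) := by
          rw [hh, map_mul (GeneralLinearGroup.map i)]; simp only [mul_assoc]
      _ = _ := by
          rw [hTT, hmsc, mul_assoc _ A, ← sc_comm _ A, map_mul sc, map_mul sc]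
          simp only [mul_assoc]
  have hbb : (innd h * fld τ : MulAut P) * (innd h * fld τ) = innd (h * smGU τ h) * fld ρ := by
    rw [hρ, map_mul innd, map_mul fld, mul_assoc, ← mul_assoc (fld τ : MulAut P), fld_mul_innd]
    simp only [mul_assoc]
  have hb4 : (innd h * fld τ : MulAut P) ^ 4 = 1 := by
    rw [show 4 = 2 * 2 from rfl, pow_mul, pow_two, pow_two, hbb]
    rcases eq_one_or_eq hσσ hρfix with h1 | h1
    · rw [h1, map_one, mul_one, innd_scalar (e : F), mul_one]
      rw [h1, Descent.sm_one] at he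
      rw [← sc_val]
      exact congrArg Units.val (mul_right_cancel he)
    · rw [h1, show (innd (h * smGU τ h) : MulAut P) = innd g from (innd_eq_innd hF r hn).2
        ⟨(e * (Units.mk0 l hl0)⁻¹ : Fˣ), ?_⟩, hord]
      rw [h1] at he
      have e3 : h.1 * sm τ h.1 = sc (e * (Units.mk0 l hl0)⁻¹) * g.1 := by
        refine mul_right_cancel (b := sm σ A) ?_
        rw [he, mul_assoc, hl', ← mul_assoc, ← map_mul, inv_mul_cancel_right]
      show (h.1 * sm τ h.1).val = _
      rw [e3, Units.val_mul (sc _), sc_val, smul_mul_assoc, one_mul]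
  refine orderOf_eq_one_iff.1 (Nat.eq_one_of_dvd_coprimes (Nat.Coprime.pow_right 2 hb) dvd_rfl ?_)
  exact orderOf_dvd_of_pow_eq_one hb4

include hF r in
/-- **Balance for an involutory graph automorphism.** -/
theorem psu_graph_balance (hn : 3 ≤ n) (h32 : ¬ (n = 3 ∧ q = 2)) (hr2 : r ≠ 2) (H : Subgroup (MulAut P))
    (hinn : ∀ k : P, MulAut.conj k ∈ H) {σ : F ≃+* F} (hσ : orderOf σ = 2) (g : GUn)
    (hord : (innd g * fld σ : MulAut P) * (innd g * fld σ) = 1) :
    Cfsg.pPrimeCore 2 ↥(H ⊓ Subgroup.centralizer {(innd g * fld σ : MulAut P)}) = ⊥ ∧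
      ¬ Nat.Coprime 2 (Nat.card ↥(MonoidHom.eqLocus (innd g * fld σ : MulAut P).toMonoidHom (MonoidHom.id P))) := by
  classical
  haveI : Finite P := inferInstance
  haveI : Nonempty (Fin n) := ⟨⟨0, by omega⟩⟩
  haveI : Fact (Nat.Prime 2) := ⟨Nat.prime_two⟩
  letI : Fintype (AutPSL.fixedF σ) := Fintype.ofFinite _
  haveI : CharP (AutPSL.fixedF σ) r := (AutPSL.fixedF σ).subtype.charP Subtype.val_injective r
  set i : AutPSL.fixedF σ →+* F := (AutPSL.fixedF σ).subtype with hi
  have h2 : (2 : F) ≠ 0 := fun h => hr2 ((Nat.prime_dvd_prime_iff_eq Fact.out Nat.prime_two).1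
    ((CharP.cast_eq_zero_iff F r 2).1 (by exact_mod_cast h)))
  have h2₀ : (2 : AutPSL.fixedF σ) ≠ 0 := fun h => h2 (by rw [← map_ofNat i 2, h, map_zero])
  have hσσ : ∀ y, σ (σ y) = y := fun y => by
    have h := pow_orderOf_eq_one σ
    rw [hσ] at h
    exact DFunLike.congr_fun h y
  obtain ⟨a, ha⟩ : ∃ a, σ a ≠ a := by
    by_contra! h
    rw [show σ = 1 from RingEquiv.ext h, orderOf_one] at hσ
    exact absurd hσ (by decide)
  have X : Ctx σ i (a - σ a) q := ⟨hσ, AutPSL.sigma_eq_frob hσ hF,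
    fun y => ⟨fun h => ⟨⟨y, h⟩, rfl⟩, fun ⟨z, hz⟩ => hz ▸ z.2⟩, by rw [map_sub, hσσ, neg_sub],
    sub_ne_zero.2 (Ne.symm ha)⟩
  have hgt : g.1.val.transpose = g.1.val ∨ g.1.val.transpose = -g.1.val := by
    obtain ⟨c, hc⟩ := (Proxy.grU_sq_iff hF r hn hσ g).1 hord
    have hu : g.1.val * (g.1.val.map σ).transpose = 1 := (AutPSL.mem_GU_iff X.invol (X.q_ne hF) X.hfrob g.1).1 g.2
    have hu' : g.1.val.map σ * g.1.val.transpose = 1 := by
      rw [mul_eq_one_comm]
      calc g.1.val.transpose * g.1.val.map σ = ((g.1.val.map σ).transpose * g.1.val).transpose := by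
            rw [Matrix.transpose_mul, Matrix.transpose_transpose]
        _ = 1 := by rw [mul_eq_one_comm.1 hu, Matrix.transpose_one]
    have hM : g.1.val = c • g.1.val.transpose := by
      calc g.1.val = g.1.val * (g.1.val.map σ * g.1.val.transpose) := by rw [hu', mul_one]
        _ = c • g.1.val.transpose := by rw [← mul_assoc, hc, smul_mul_assoc, one_mul]
    have hne := AutPSL.GForms.val_ne_zero (show 0 < n by omega) g.1
    have hc0 : c ≠ 0 := fun h => hne (by rw [hM, h, zero_smul])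
    exact AutPSL.GForms.scale_iff hne (c := Units.mk0 c hc0) hM
  obtain ⟨A, μ, N, M⟩ := Proxy.exists_model hF (show 1 ≤ n by omega) X g hgt
  obtain ⟨-, -, -, hcanon⟩ := id M
  have hinv : ∀ y : AutPSL.fixedF σ, (1 : AutPSL.fixedF σ ≃+* AutPSL.fixedF σ) ((1 : AutPSL.fixedF σ ≃+* AutPSL.fixedF σ) y) = y :=
    fun y => rfl
  have hcent₀ : ∀ (T : GL (Fin n) (AutPSL.fixedF σ)) (τ : AutPSL.fixedF σ ≃+* AutPSL.fixedF σ),
      (∀ s, (AutPSL.innd T * AutPSL.fld τ : MulAut (Matrix.ProjectiveSpecialLinearGroup (Fin n) (AutPSL.fixedF σ)))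
        (siHom N 1 s) = siHom N 1 s) →
      τ * τ = 1 ∧ (T * sm τ T).val ∈ Set.range (Matrix.scalar (Fin n) :
        AutPSL.fixedF σ → Matrix (Fin n) (Fin n) (AutPSL.fixedF σ)) := by
    intro T τ h
    rcases hcanon with ⟨hN, -⟩ | ⟨hN, -⟩
    · exact si_hcent hn h2₀ (by rw [hN]; exact Matrix.ext fun _ _ => rfl) hinv T τ h
    · obtain ⟨rfl, c, hc⟩ := si_hcent' r hr2 hn hN T τ h
      refine ⟨one_mul 1, c * c, ?_⟩
      rw [Descent.sm_one, Units.val_mul, ← hc, map_mul]
  let ψ : SI N 1 →* P := (QuotientGroup.mk' _).comp (siSU hF X M)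
  have hψ : ∀ s, ψ s = QuotientGroup.mk (siSU hF X M s) := fun s => rfl
  have hψx : ∀ s, (innd g * fld σ : MulAut P) (ψ s) = ψ s := fun s => by
    rw [hψ, MulAut.mul_apply, fld_mk, innd_mk, siSU_fixed]
  have hker : ∀ s, ψ s = 1 ↔ siHom N 1 s = 1 := fun s => siSU_mk_eq_one_iff hF r hn X M s
  have hne : ∃ s, ψ s ≠ 1 := by
    by_contra! hall
    let E : Matrix (Fin n) (Fin n) (AutPSL.fixedF σ) := Matrix.single ⟨0, by omega⟩ ⟨1, by omega⟩ 1
    have hEE : E * E = 0 := by simp [E]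
    let T : GL (Fin n) (AutPSL.fixedF σ) := ⟨1 + E, 1 - E, by
      simp [Matrix.mul_sub, Matrix.add_mul, hEE], by
      simp [Matrix.mul_add, Matrix.sub_mul, hEE]⟩
    obtain ⟨c, hc⟩ := (hcent₀ T 1 fun s => by rw [(hker s).1 (hall s), map_one]).2
    have h3 := congrFun (congrFun hc ⟨0, by omega⟩) ⟨1, by omega⟩
    rw [Units.val_mul, sm_val, show T.val.map (⇑(1 : AutPSL.fixedF σ ≃+* AutPSL.fixedF σ)) = T.val from
      Matrix.ext fun _ _ => rfl, show T.val * T.val = 1 + (E + E) by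
        show (1 + E) * (1 + E) = _
        simp [Matrix.mul_add, Matrix.add_mul, hEE]; abel] at h3
    simp [E, Matrix.diagonal_apply] at h3
    exact h2₀ (by linear_combination -h3)
  have hbot : Cfsg.pPrimeCore 2 ↥(H ⊓ Subgroup.centralizer {(innd g * fld σ : MulAut P)}) = ⊥ := by
    refine core_eq_bot H hinn _ (inn_injective hF r hn) ψ hψx ?_ ?_ ?_
    · intro k hk s
      obtain ⟨t, rfl⟩ := QuotientGroup.mk_surjective k
      rw [MulAut.mul_apply, fld_mk, innd_mk] at hk
      set χ : MulAut G := cnj g * frobU σ with hχ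
      set e := siSU hF X M s
      have hz : t⁻¹ * χ t ∈ Subgroup.center G := QuotientGroup.eq.1 hk.symm
      obtain ⟨s', hs'⟩ := exists_siSU hF X M (t := t * e * t⁻¹) (by
        show χ (t * e * t⁻¹) = _
        have he : χ e = e := siSU_fixed hF X M s
        rw [map_mul, map_mul, map_inv, he]
        have := Subgroup.mem_center_iff.1 hz e
        calc χ t * e * (χ t)⁻¹ = t * (t⁻¹ * χ t * e) * (χ t)⁻¹ := by group
          _ = t * (e * (t⁻¹ * χ t)) * (χ t)⁻¹ := by rw [this]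
          _ = _ := by group)
      exact ⟨s', by rw [hψ, hψ, hs']; rfl⟩
    · intro K hK hKo s hs
      refine (hker s).2 ?_
      have hKo' : ∀ m ∈ K, (orderOf (siHom N 1 m)).Coprime 2 := fun m hm => by
        rw [show orderOf (siHom N 1 m) = orderOf (ψ m) from orderOf_eq_orderOf_iff.2 fun k => by
          rw [← map_pow, ← map_pow, hker]]
        exact hKo m hm
      rcases hcanon with ⟨hN, -⟩ | ⟨hN, -⟩
      · exact si_htriv hn h2₀ (by rw [hN]; exact Matrix.ext fun _ _ => rfl) hinv K hK hKo' s hs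
      · exact si_htriv' r hr2 hn hN K hK hKo' s hs
    · exact fun b _ hcm hb hfix => psu_graph_cent hF r hn h32 X M hord hcent₀ hcm hb hfix
  refine ⟨hbot, fun hcop => ?_⟩
  obtain ⟨s, hs⟩ := hne
  exact core_ne_bot H hinn _ (inn_injective hF r hn) hcop (k := ψ s) (hψx s) hs hbot

end Cfsg.Lib.Linear.Balance
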