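import Cfsg.Agent.Lib.Linear.AutPSL.Descent

/-!
# Nondegenerate symmetric or Hermitian forms over a finite field of odd characteristic

Reflections, representation of scalars, and: every line is the intersection of two planes with orthogonal bases of
anisotropic vectors.
-/

set_option autoImplicit false

namespace Cfsg.Lib.Linear.Balance

open Module

/-- A nondegenerate symmetric (`σ = 1`) or `σ`-Hermitian form, linear in the first variable. -/
structure RForm {F : Type*} [Field F] (σ : F ≃+* F) (V : Type*) [AddCommGroup V] [Module F V] where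
  B : V → V → F
  add_left : ∀ u v w, B (u + v) w = B u w + B v w
  smul_left : ∀ (c : F) u w, B (c • u) w = c * B u w
  symm : ∀ u v, B v u = σ (B u v)
  ndeg : ∀ u, (∀ v, B u v = 0) → u = 0
  invol : ∀ x, σ (σ x) = x

namespace RForm

variable {F : Type*} [Field F] {σ : F ≃+* F} {V : Type*} [AddCommGroup V] [Module F V] (φ : RForm σ V)

theorem add_right (u v w : V) : φ.B u (v + w) = φ.B u v + φ.B u w := by
  rw [φ.symm (v + w) u, φ.add_left, map_add, ← φ.symm, ← φ.symm]

theorem smul_right (c : F) (u v : V) : φ.B u (c • v) = σ c * φ.B u v := by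
  rw [φ.symm (c • v) u, φ.smul_left, map_mul, ← φ.symm]

theorem zero_left (w : V) : φ.B 0 w = 0 := by
  have := φ.smul_left 0 0 w
  rwa [zero_smul, zero_mul] at this

theorem zero_right (w : V) : φ.B w 0 = 0 := by rw [φ.symm 0 w, φ.zero_left, map_zero]

theorem neg_left (u w : V) : φ.B (-u) w = -φ.B u w := by
  rw [← neg_one_smul F u, φ.smul_left, neg_one_mul]

theorem neg_right (u w : V) : φ.B u (-w) = -φ.B u w := by
  rw [φ.symm (-w) u, φ.neg_left, map_neg, ← φ.symm]

theorem sub_left (u v w : V) : φ.B (u - v) w = φ.B u w - φ.B v w := by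
  rw [sub_eq_add_neg, φ.add_left, φ.neg_left, sub_eq_add_neg]

theorem sub_right (u v w : V) : φ.B u (v - w) = φ.B u v - φ.B u w := by
  rw [sub_eq_add_neg, φ.add_right, φ.neg_right, sub_eq_add_neg]

theorem self_fix (u : V) : σ (φ.B u u) = φ.B u u := (φ.symm u u).symm

theorem comm_zero {u v : V} (h : φ.B u v = 0) : φ.B v u = 0 := by rw [φ.symm u v, h, map_zero]

theorem ndeg_right {u : V} (h : ∀ v, φ.B v u = 0) : u = 0 := φ.ndeg u fun v => φ.comm_zero (h v)

theorem ne_zero_of {u v : V} (h : φ.B u v ≠ 0) : u ≠ 0 := fun h0 => h (by rw [h0, φ.zero_left])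

theorem exists_eq_one {u : V} (hu : u ≠ 0) : ∃ v, φ.B u v = 1 := by
  by_contra hc
  push Not at hc
  refine hu (φ.ndeg u fun v => ?_)
  by_contra h
  refine hc (σ (φ.B u v)⁻¹ • v) ?_
  rw [φ.smul_right, φ.invol, inv_mul_cancel₀ h]

theorem exists_aniso (h2 : (2 : F) ≠ 0) (hV : ∃ u : V, u ≠ 0) : ∃ u, φ.B u u ≠ 0 := by
  obtain ⟨u, hu⟩ := hV
  obtain ⟨v, hv⟩ := φ.exists_eq_one hu
  by_contra hc
  push Not at hc
  have h := hc (u + v)
  rw [φ.add_left, φ.add_right, φ.add_right, hc, hc, hv, φ.symm u v, hv, map_one, zero_add, add_zero] at h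
  exact h2 (by rw [← one_add_one_eq_two]; exact h)

/-- The functional `x ↦ B x u`. -/
def lin (u : V) : V →ₗ[F] F where
  toFun x := φ.B x u
  map_add' x y := φ.add_left x y u
  map_smul' c x := φ.smul_left c x u

@[simp] theorem lin_apply (u x : V) : φ.lin u x = φ.B x u := rfl

/-- The orthogonal of a vector. -/
abbrev perp (u : V) : Submodule F V := LinearMap.ker (φ.lin u)

theorem mem_perp {u x : V} : x ∈ φ.perp u ↔ φ.B x u = 0 := Iff.rfl

/-- The projection to the orthogonal of an anisotropic vector. -/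
def proj (u : V) : V →ₗ[F] V := LinearMap.id - (φ.lin u).smulRight ((φ.B u u)⁻¹ • u)

theorem proj_apply (u x : V) : φ.proj u x = x - (φ.B x u / φ.B u u) • u := by
  simp [proj, div_eq_mul_inv, smul_smul]

theorem proj_mem {u : V} (hu : φ.B u u ≠ 0) (x : V) : φ.proj u x ∈ φ.perp u := by
  rw [mem_perp, proj_apply, φ.sub_left, φ.smul_left, div_mul_cancel₀ _ hu, sub_self]

/-- The form on the orthogonal of an anisotropic vector. -/
def res {u : V} (hu : φ.B u u ≠ 0) : RForm σ (φ.perp u) where
  B x y := φ.B x y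
  add_left x y z := φ.add_left x y z
  smul_left c x y := φ.smul_left c x y
  symm x y := φ.symm x y
  ndeg x hx := Subtype.ext (φ.ndeg x.1 fun v => by
    have h : v = φ.proj u v + (φ.B v u / φ.B u u) • u := by rw [proj_apply, sub_add_cancel]
    rw [h, φ.add_right, φ.smul_right, φ.mem_perp.1 x.2, mul_zero, add_zero]
    exact hx ⟨_, φ.proj_mem hu v⟩)
  invol := φ.invol

@[simp] theorem res_B {u : V} (hu : φ.B u u ≠ 0) (x y : φ.perp u) : (φ.res hu).B x y = φ.B x y := rfl

theorem finrank_perp [FiniteDimensional F V] {u : V} (hu : φ.B u u ≠ 0) :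
    finrank F (φ.perp u) + 1 = finrank F V := by
  have h := LinearMap.finrank_range_add_finrank_ker (φ.lin u)
  have hr : LinearMap.range (φ.lin u) = ⊤ := by
    refine LinearMap.range_eq_top.2 fun c => ⟨(c / φ.B u u) • u, ?_⟩
    rw [lin_apply, φ.smul_left, div_mul_cancel₀ _ hu]
  rw [hr, finrank_top, finrank_self] at h
  show finrank F (LinearMap.ker (φ.lin u)) + 1 = _
  omega

theorem exists_aniso_perp [FiniteDimensional F V] (h2 : (2 : F) ≠ 0) (hd : 2 ≤ finrank F V) {u : V}
    (hu : φ.B u u ≠ 0) : ∃ v, φ.B v v ≠ 0 ∧ φ.B v u = 0 := by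
  have hpos : 0 < finrank F (φ.perp u) := by have := φ.finrank_perp hu; omega
  haveI : Nontrivial (φ.perp u) := Module.nontrivial_of_finrank_pos hpos
  obtain ⟨v, hv⟩ := (φ.res hu).exists_aniso h2 (exists_ne 0)
  exact ⟨v.1, hv, v.2⟩

theorem exists_aniso_perp2 [FiniteDimensional F V] (h2 : (2 : F) ≠ 0) (hd : 3 ≤ finrank F V) {u v : V}
    (hu : φ.B u u ≠ 0) (hv : φ.B v v ≠ 0) (huv : φ.B v u = 0) :
    ∃ w, φ.B w w ≠ 0 ∧ φ.B w u = 0 ∧ φ.B w v = 0 := by
  obtain ⟨w, hw, hwv⟩ := (φ.res hu).exists_aniso_perp h2 (by have := φ.finrank_perp hu; omega)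
    (u := ⟨v, huv⟩) hv
  exact ⟨w.1, hw, w.2, hwv⟩

/-- An isometry. -/
def IsIso (g : V ≃ₗ[F] V) : Prop := ∀ x y, φ.B (g x) (g y) = φ.B x y

theorem IsIso.mul {g h : V ≃ₗ[F] V} (hg : φ.IsIso g) (hh : φ.IsIso h) : φ.IsIso (g * h) := fun x y => by
  show φ.B (g (h x)) (g (h y)) = _
  rw [hg, hh]

/-- The reflection of an anisotropic vector. -/
noncomputable def refl {u : V} (hu : φ.B u u ≠ 0) : V ≃ₗ[F] V :=
  LinearEquiv.ofInvolutive (LinearMap.id - (φ.lin u).smulRight ((2 / φ.B u u) • u)) fun x => by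
    simp only [LinearMap.sub_apply, LinearMap.id_apply, LinearMap.smulRight_apply, lin_apply, φ.sub_left,
      φ.smul_left, map_sub, map_smul]
    match_scalars <;> field_simp <;> ring

theorem refl_apply {u : V} (hu : φ.B u u ≠ 0) (x : V) : φ.refl hu x = x - (2 * φ.B x u / φ.B u u) • u := by
  show x - φ.B x u • ((2 / φ.B u u) • u) = _
  rw [smul_smul]
  congr 2
  ring

theorem refl_refl {u : V} (hu : φ.B u u ≠ 0) : φ.refl hu * φ.refl hu = 1 :=
  LinearEquiv.ext fun x => (φ.refl hu).apply_symm_apply x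

theorem refl_refl_apply {u : V} (hu : φ.B u u ≠ 0) (x : V) : φ.refl hu (φ.refl hu x) = x :=
  LinearEquiv.congr_fun (φ.refl_refl hu) x

theorem refl_self {u : V} (hu : φ.B u u ≠ 0) : φ.refl hu u = -u := by
  rw [refl_apply, mul_div_assoc, div_self hu, mul_one, two_smul]
  abel

theorem refl_perp {u : V} (hu : φ.B u u ≠ 0) {x : V} (hx : φ.B x u = 0) : φ.refl hu x = x := by
  rw [refl_apply, hx, mul_zero, zero_div, zero_smul, sub_zero]

theorem refl_iso {u : V} (hu : φ.B u u ≠ 0) : φ.IsIso (φ.refl hu) := fun x y => by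
  rw [refl_apply, refl_apply, φ.sub_left, φ.sub_right, φ.sub_right, φ.smul_left, φ.smul_left, φ.smul_right,
    φ.smul_right, map_div₀, map_mul, map_ofNat, φ.self_fix, ← φ.symm y u]
  field_simp
  ring

theorem eq_smul_of_refl {u x : V} (hu : φ.B u u ≠ 0) (h2 : (2 : F) ≠ 0) (h : φ.refl hu x = -x) :
    x = (φ.B x u / φ.B u u) • u := by
  rw [refl_apply, mul_div_assoc, mul_smul] at h
  have h' : (2 : F) • x = (2 : F) • ((φ.B x u / φ.B u u) • u) := by
    rw [two_smul F x]
    calc x + x = x + x + ((x - (2 : F) • ((φ.B x u / φ.B u u) • u)) - -x) - x - x +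
          (2 : F) • ((φ.B x u / φ.B u u) • u) := by abel
      _ = _ := by rw [h]; abel
  exact smul_right_injective V h2 h'

/-- Two orthogonal anisotropic vectors. -/
def GoodPair (u w : V) : Prop := φ.B u u ≠ 0 ∧ φ.B w w ≠ 0 ∧ φ.B w u = 0

/-- `span {v, a}` has an orthogonal basis of anisotropic vectors. -/
def Plane (v a : V) : Prop :=
  ∃ u w, φ.GoodPair u w ∧ Submodule.span F {v, a} = Submodule.span F ({u, w} : Set V)

/-- Every line is the intersection of two planes with orthogonal anisotropic bases. -/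
theorem exists_planes [FiniteDimensional F V] (h2 : (2 : F) ≠ 0) (hd : 3 ≤ finrank F V) {v : V} (hv : v ≠ 0) :
    ∃ a b, LinearIndependent F ![v, a, b] ∧ φ.Plane v a ∧ φ.Plane v b := by
  by_cases hvv : φ.B v v = 0
  · have hz : ∃ z, φ.B v z = 1 := φ.exists_eq_one hv
    obtain ⟨w, hw⟩ := hz
    have hw' : φ.B w v = 1 := by rw [φ.symm v w, hw, map_one]
    -- an anisotropic vector not orthogonal to `v`
    have hu : ∀ z, φ.B z v = 0 → ∃ c : F, σ c = c ∧ φ.B (w + z + c • v) (w + z + c • v) ≠ 0 := by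
      intro z hz'
      by_cases h0 : φ.B (w + z) (w + z) = 0
      · refine ⟨1, map_one σ, ?_⟩
        have e : φ.B (w + z + (1 : F) • v) (w + z + (1 : F) • v) = 2 := by
          simp only [one_smul, φ.add_left, φ.add_right, hvv, hw, hw', hz', φ.comm_zero hz'] at h0 ⊢
          linear_combination h0
        rw [e]; exact h2
      · exact ⟨0, map_zero σ, by simpa using h0⟩
    obtain ⟨c, -, hc⟩ := hu 0 (φ.zero_left v)
    set u := w + 0 + c • v with hudef
    have huv : φ.B u v = 1 := by simp [hudef, φ.add_left, φ.smul_left, hw', hvv]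
    obtain ⟨z, hzv, hznot⟩ : ∃ z, φ.B z v = 0 ∧ z ∉ Submodule.span F {v} := by
      by_contra! hcon
      have hle : φ.perp v ≤ Submodule.span F {v} := fun z hz => hcon z hz
      have h1 := Submodule.finrank_mono hle
      rw [finrank_span_singleton hv] at h1
      have h2' := LinearMap.finrank_range_add_finrank_ker (φ.lin v)
      have h3 := Submodule.finrank_le (LinearMap.range (φ.lin v))
      rw [finrank_self] at h3
      change finrank F (LinearMap.ker (φ.lin v)) ≤ 1 at h1
      omega
    obtain ⟨c', -, hc'⟩ := hu z hzv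
    set u' := w + z + c' • v with hu'def
    have hu'v : φ.B u' v = 1 := by simp [hu'def, φ.add_left, φ.smul_left, hw', hvv, hzv]
    have mkPlane : ∀ u : V, φ.B u u ≠ 0 → φ.B u v = 1 → φ.Plane v u := by
      intro u huu huv
      refine ⟨u, φ.proj u v, ⟨huu, ?_, φ.proj_mem huu v⟩, ?_⟩
      · have hvu : φ.B v u = 1 := by rw [φ.symm u v, huv, map_one]
        rw [proj_apply, φ.sub_left, φ.sub_right, φ.sub_right, φ.smul_left, φ.smul_left, φ.smul_right, φ.smul_right,
          hvv, hvu, huv, map_div₀, map_one, φ.self_fix]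
        field_simp
        ring_nf
        simpa using (inv_ne_zero huu : _ ≠ (0 : F))
      · rw [proj_apply]
        refine le_antisymm ?_ ?_ <;> rw [Submodule.span_le]
        · refine Set.insert_subset ?_ (Set.singleton_subset_iff.2 (Submodule.subset_span (Set.mem_insert _ _)))
          exact Submodule.mem_span_pair.2 ⟨φ.B v u / φ.B u u, 1, by rw [one_smul, add_sub_cancel]⟩
        · refine Set.insert_subset (Submodule.subset_span (Set.mem_insert_of_mem _ rfl)) (Set.singleton_subset_iff.2 ?_)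
          exact Submodule.mem_span_pair.2 ⟨1, -(φ.B v u / φ.B u u), by rw [one_smul, neg_smul, sub_eq_add_neg]⟩
    refine ⟨u, u', ?_, mkPlane u hc huv, mkPlane u' hc' hu'v⟩
    rw [Fintype.linearIndependent_iff]
    intro g hg
    simp only [Fin.sum_univ_three, Matrix.cons_val_zero, Matrix.cons_val_one, Matrix.cons_val_two,
      Matrix.tail_cons, Matrix.head_cons] at hg
    have e0 := congrArg (fun x => φ.B x v) hg
    simp only [φ.add_left, φ.smul_left, φ.zero_left, hvv, huv, hu'v, mul_zero, zero_add, mul_one] at e0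
    have e1 : g 2 • z ∈ Submodule.span F {v} := by
      refine Submodule.mem_span_singleton.2 ⟨-(g 0 + g 1 * c + g 2 * c'), ?_⟩
      have h1 : g 1 = -g 2 := eq_neg_of_add_eq_zero_left e0
      rw [hudef, hu'def, h1] at hg
      rw [h1]
      linear_combination (norm := module) (-1 : F) • hg
    have e2 : g 2 = 0 := by
      by_contra hne
      exact hznot ((Submodule.smul_mem_iff _ hne).1 e1)
    have e3 : g 1 = 0 := by rw [e2, add_zero] at e0; exact e0
    rw [e2, e3, zero_smul, zero_smul, add_zero, add_zero, smul_eq_zero, or_iff_left hv] at hg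
    intro i
    fin_cases i <;> assumption
  · obtain ⟨a, ha, hav⟩ := φ.exists_aniso_perp h2 (by omega) hvv
    obtain ⟨b, hb, hbv, hba⟩ := φ.exists_aniso_perp2 h2 hd hvv ha hav
    refine ⟨a, b, ?_, ⟨v, a, ⟨hvv, ha, hav⟩, rfl⟩, ⟨v, b, ⟨hvv, hb, hbv⟩, rfl⟩⟩
    rw [Fintype.linearIndependent_iff]
    intro g hg
    simp only [Fin.sum_univ_three, Matrix.cons_val_zero, Matrix.cons_val_one, Matrix.cons_val_two,
      Matrix.tail_cons, Matrix.head_cons] at hg
    have e0 := congrArg (fun x => φ.B x v) hg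
    have e1 := congrArg (fun x => φ.B x a) hg
    have e2 := congrArg (fun x => φ.B x b) hg
    simp only [φ.add_left, φ.smul_left, φ.zero_left, hav, hbv, hba, φ.comm_zero hav, φ.comm_zero hbv,
      φ.comm_zero hba, mul_zero, add_zero, zero_add, mul_eq_zero, or_iff_left hvv, or_iff_left ha, or_iff_left hb] at e0 e1 e2
    intro i
    fin_cases i <;> assumption

end RForm

end Cfsg.Lib.Linear.Balance
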